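import Cfsg.Agent.DL.Dat.Conj
import Cfsg.Agent.DL.Mk.SBN

/-!
# Orders at split levels, the split BN axioms (helper10)
-/

set_option autoImplicit false
set_option linter.unusedSectionVars false

namespace Cfsg.Agent.DL

open CoxeterSystem Cfsg.Agent.ChevalleyStructure.CoxeterGeom Cfsg.Agent.Tits.Roots Cfsg.Agent.Nodes.Reps
  Cfsg.Agent.Nodes.BNOf Cfsg.Agent.Nodes.Bruhat Cfsg.Agent.LangThm

theorem card_pow_eq {k : Type} [Field k] [IsAlgClosed k] {p : ℕ} [Fact p.Prime] [CharP k p] {e : ℕ} (he : 0 < e) :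
    Nat.card {a : k // a ^ p ^ e = a} = p ^ e := by
  classical
  have h1 : 1 < p ^ e := Nat.one_lt_pow he.ne' (Fact.out : p.Prime).one_lt
  have hsep : (Polynomial.X ^ p ^ e - Polynomial.X : Polynomial k).Separable :=
    galois_poly_separable p (p ^ e) (dvd_pow_self p he.ne')
  have h2 : (Polynomial.X ^ p ^ e - Polynomial.X : Polynomial k).roots.toFinset.card = p ^ e := by
    rw [Multiset.toFinset_card_of_nodup (Polynomial.nodup_roots hsep),
      ← (IsAlgClosed.splits _).natDegree_eq_card_roots, FiniteField.X_pow_card_sub_X_natDegree_eq _ h1]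
  refine Eq.trans ?_ h2
  rw [← Nat.card_eq_finsetCard]
  refine Nat.card_congr (Equiv.subtypeEquivRight fun a => ?_)
  rw [Multiset.mem_toFinset, Polynomial.mem_roots (FiniteField.X_pow_card_sub_X_ne_zero _ h1)]
  simp [sub_eq_zero]

theorem card_units_pow_eq {k : Type} [Field k] [IsAlgClosed k] {p : ℕ} [Fact p.Prime] [CharP k p] {e : ℕ}
    (he : 0 < e) : Nat.card {a : kˣ // a ^ p ^ e = a} = p ^ e - 1 := by
  have h0 : (0 : k) ^ p ^ e = 0 := zero_pow (pow_pos (Fact.out : p.Prime).pos _).ne'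
  have : Finite {a : k // a ^ p ^ e = a} := (finite_pow_eq (k := k) he).to_subtype
  have h1 : Nat.card {b : {a : k // a ^ p ^ e = a} // b ≠ ⟨0, h0⟩} = p ^ e - 1 := by
    classical
    have := Fintype.ofFinite {a : k // a ^ p ^ e = a}
    rw [Nat.card_eq_fintype_card, Fintype.card_subtype_compl, Fintype.card_subtype_eq, ← Nat.card_eq_fintype_card,
      card_pow_eq he]
  refine Eq.trans ?_ h1
  refine Nat.card_congr
    { toFun := fun a => ⟨⟨a.1, by rw [← Units.val_pow_eq_pow_val, a.2]⟩, fun h => a.1.ne_zero (congrArg Subtype.val h)⟩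
      invFun := fun a => ⟨Units.mk0 a.1.1 fun h => a.2 (Subtype.ext h), Units.ext a.1.2⟩
      left_inv := fun a => Subtype.ext (Units.ext rfl)
      right_inv := fun a => rfl }

namespace Datum

variable {p : ℕ} [Fact p.Prime] {k : Type} [Field k] [CharP k p] {Y : Type} [Group Y] {N : Type} [Fintype N]
  [DecidableEq N] {ρ : Y →* GL N k} {F : MulAut Y} {G : Subgroup Y} (D : Datum p ρ F G)

/-- the axioms of helper8 -/
theorem sbn : Mk.SBN D.cs G D.U D.T D.NN D.pr D.n (fun i => D.X (sr i)) where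
  T_le := D.T_le_NN
  N_le := D.NN_le_G
  U_le := D.U_le_G
  X_le i := RGD.le_Sup (S := RGD.Pos D.cs D.h) ⟨isRoot_sr _ _ i, sr_nonneg i⟩
  T_comm _ ha _ hb := D.T_comm ha hb
  π_mul _ ha _ hb := D.pr_mul ha hb
  π_eq_one _ ha := D.pr_eq_one_iff ha
  n_mem := D.n_mem_NN
  π_n := D.pr_n
  T_norm _ ht _ hu := D.conj_mem_U_of_T ht hu
  dec i u hu := by
    obtain ⟨j, hj⟩ := D.mem_S_iff.1 (inv_mem hu)
    obtain ⟨r, hr, ξ, hξ, e⟩ := exists_mul (D.tow.rgd j) (i := i) (fun _ h => h) ⟨isRoot_sr _ _ i, sr_nonneg i⟩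
      (fun y hy _ z hz => ⟨hz.1, RGD.nonneg_of_btwn (sr_nonneg i) hy.2 hz⟩) hj
    refine ⟨ξ⁻¹, inv_mem hξ.1, ?_⟩
    have h1 : ξ⁻¹⁻¹ * u = r⁻¹ := by rw [← inv_inv u, e]; group
    have h2 := D.conj_mem_S (rp_simple _ D.nsys i).inv (S' := RGD.Pos D.cs D.h) (fun _ h => h.1.1)
      (fun a ha => ⟨ha.1.1.act _, by rw [inv_simple]; exact ha.1.1.simple_nonneg ha.1.2 i ha.2⟩)
      (inv_mem (D.Sup_Xe_le _ _ hr))
    rwa [h1, ← inv_inv (D.n i), inv_inv (D.n i)⁻¹]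
  dec_uniq i ξ hξ hU := by
    have h1 := D.conj_mem (rp_simple _ D.nsys i).inv (isRoot_sr _ _ i) hξ
    rw [inv_inv, inv_simple, act, rep_simple_sr] at h1
    have h2 := D.eq_one_of_mem_U_of_mem_UN hU (RGD.le_Sup (S := Nodes.OppDec.Neg D.cs D.h)
      ⟨(isRoot_sr _ _ i).neg, neg_nonpos.2 (sr_nonneg i)⟩ h1)
    rwa [mul_assoc, inv_mul_eq_one, right_eq_mul] at h2
  up i a ha hl ξ hξ := RGD.le_Sup (S := RGD.Pos D.cs D.h) ⟨(isRoot_sr _ _ i).act _, nonneg_of_lt D.cs D.h _ i hl⟩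
    (D.conj_mem (D.rp_pr ha) (isRoot_sr _ _ i) hξ)
  rk1 i ξ hξ hne := by
    have h1 := D.conj_mem (rp_simple _ D.nsys i) (isRoot_sr _ _ i) hξ
    rw [act, rep_simple_sr] at h1
    obtain ⟨j, hj⟩ := D.exists_lv (D.n i * ξ * (D.n i)⁻¹)
    obtain ⟨a, ha, t, ht, b, hb, e⟩ := (D.tow.rgd j).rk1 i _ ⟨h1, hj⟩ (by simpa using hne)
    have h2 : D.n i * D.n i ∈ D.T := ((D.tow.rgd j).sq_mem_T i).1
    refine ⟨a, ha.1, t * (D.n i * (D.n i * D.n i) * (D.n i)⁻¹), mul_mem ht.1 (D.conj_mem_T (D.n_mem_NN i) h2),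
      (D.n i * D.n i)⁻¹ * b * (D.n i * D.n i), ?_, ?_⟩
    · have := D.conj_mem (rp_of_mem (cs := D.cs) (hN := D.nsys) (inv_mem h2)) (isRoot_sr _ _ i) hb.1
      rwa [inv_inv, act, map_one, Module.End.one_apply] at this
    · calc _ = D.n i * ξ * (D.n i)⁻¹ * (D.n i * D.n i) := by group
        _ = _ := by rw [e]; group
  uniq a ha b hb u hu v hv e :=
    (D.eq_of_mem_UNU (one_mem _) hu (D.rp_pr ha) (D.rp_pr hb) (one_mem _) hv (by simpa using e)).2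
  cover y hy := by
    obtain ⟨w, u, hu, m, hm, v, hv, e⟩ := D.exists_normal_form hy
    exact ⟨u, hu, m, ⟨w, hm⟩, v, D.NW_le_U w hv, e⟩

variable [IsAlgClosed k] {D} {d e : ℕ}

theorem Split.card_S (H : D.Split d e) {A : Set (D.I → ℤ)} (hA : D.Uni A) :
    Nat.card ↥(D.S A ⊓ lev p ρ e) = (p ^ e) ^ A.ncard := by
  classical
  obtain ⟨L, hL⟩ := hA.exists_ord
  have : Finite A := (D.finite_roots.subset hA.root).to_subtype
  let ext : (A → {a : k // a ^ p ^ e = a}) → (D.I → ℤ) → k := fun c a => if h : a ∈ A then (c ⟨a, h⟩).1 else 0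
  have hext : ∀ c (a : A), ext c a = (c a).1 := fun c a => dif_pos a.2
  have hmem : ∀ c, D.lp L (ext c) ∈ D.S A ⊓ lev p ρ e := fun c => ⟨hL.lp_mem _, D.lp_mem hL.root fun a ha _ =>
    (H.x_mem_lev (hL.root a ha)).2 (by rw [hext c ⟨a, (hL.mem a).1 ha⟩]; exact (c _).2)⟩
  rw [← card_pow_eq (k := k) H.e_pos, ← Nat.card_coe_set_eq, ← Nat.card_fun]
  refine (Nat.card_congr (Equiv.ofBijective (fun c => (⟨_, hmem c⟩ : ↥(D.S A ⊓ lev p ρ e))) ⟨fun c c' h => ?_, ?_⟩)).symm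
  · funext a
    apply Subtype.ext
    rw [← hext, ← hext]
    exact hL.inj (congrArg Subtype.val h) a a.2
  · rintro ⟨u, h1, h2⟩
    rw [← H.fix_eq] at h2
    obtain ⟨c, -, hc, rfl⟩ := hA.exists_of_fix hL (fun _ : Unit => (F ^ d).toMonoidHom) (fun _ _ t => t ^ p ^ e)
      (fun _ a ha t => H.x a (hA.root a ha) t) h1 (fun _ => h2)
    exact ⟨fun a => ⟨c a, hc () a a.2⟩, Subtype.ext (D.lp_congr fun a ha => dif_pos ((hL.mem a).1 ha))⟩

theorem Split.card_U (H : D.Split d e) : Nat.card ↥(D.U ⊓ lev p ρ e) = (p ^ e) ^ (RGD.Pos D.cs D.h).ncard :=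
  H.card_S D.uni_pos

theorem Split.card_X (H : D.Split d e) {a : D.I → ℤ} (ha : D.Rt a) : Nat.card ↥(D.X a ⊓ lev p ρ e) = p ^ e := by
  rw [← card_pow_eq (k := k) H.e_pos]
  refine (Nat.card_congr (Equiv.ofBijective (fun c : {a : k // a ^ p ^ e = a} =>
    (⟨D.x a c, D.x_mem ha _, (H.x_mem_lev ha).2 c.2⟩ : ↥(D.X a ⊓ lev p ρ e))) ⟨fun c c' h => ?_, ?_⟩)).symm
  · exact Subtype.ext (D.x_inj a ha (congrArg Subtype.val h))
  · rintro ⟨u, h1, h2⟩
    obtain ⟨c, rfl⟩ := (D.mem_X a ha u).1 h1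
    exact ⟨⟨c, (H.x_mem_lev ha).1 h2⟩, rfl⟩

theorem Split.card_T (H : D.Split d e) : Nat.card ↥(D.T ⊓ lev p ρ e) = (p ^ e - 1) ^ Fintype.card D.R := by
  rw [← card_units_pow_eq (k := k) H.e_pos, ← Nat.card_eq_fintype_card, ← Nat.card_fun]
  refine (Nat.card_congr (Equiv.ofBijective (fun c : D.R → {a : kˣ // a ^ p ^ e = a} =>
    (⟨D.τ fun j => c j, D.τ_mem _, H.τ_mem_lev.2 (funext fun j => (c j).2)⟩ : ↥(D.T ⊓ lev p ρ e)))
      ⟨fun c c' h => ?_, ?_⟩)).symm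
  · exact funext fun j => Subtype.ext (congrFun (D.τ_inj (congrArg Subtype.val h)) j)
  · rintro ⟨u, h1, h2⟩
    obtain ⟨c, rfl⟩ := (D.mem_T u).1 h1
    exact ⟨fun j => ⟨c j, congrFun (H.τ_mem_lev.1 h2) j⟩, rfl⟩

end Datum

end Cfsg.Agent.DL
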