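import Cfsg.Agent.DL.Dat.SubBox
import Cfsg.Agent.DL.Uni.Gp

/-!
# The finite torus of a datum (helper10)

`T^F` is dual to `X / X (Mx - 1)`; its order is `|det (Mx - 1)|`; `N(T)^F / T^F` is the group of fixed points of `F`
on `W`; general position in terms of the character lattice.
-/

set_option autoImplicit false
set_option linter.unusedSectionVars false

namespace Cfsg.Agent.DL

open Cfsg.Agent.Nodes.Reps Cfsg.Agent.DL.Asm Cfsg.Agent.DL.Uni

section Mon

variable {R : Type} [Fintype R] [DecidableEq R] {k : Type} [Field k]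

/-- the quotient `X / X A` of the character lattice -/
abbrev Cok (A : Matrix R R ℤ) : Type := (R → ℤ) ⧸ LinearMap.range (Matrix.toLin' A.transpose)

theorem mem_range_toLin {A : Matrix R R ℤ} {m : R → ℤ} :
    m ∈ LinearMap.range (Matrix.toLin' A.transpose) ↔ ∃ m', Matrix.vecMul m' A = m := by
  simp only [LinearMap.mem_range, Matrix.toLin'_apply, Matrix.mulVec_transpose]

theorem card_cok {A : Matrix R R ℤ} (h : A.det ≠ 0) : Nat.card (Cok A) = A.det.natAbs := by
  have h1 : LinearMap.det (Matrix.toLin' A.transpose) = A.det := by rw [LinearMap.det_toLin', Matrix.det_transpose]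
  have hinj : Function.Injective (Matrix.toLin' A.transpose) := by
    rw [← LinearMap.ker_eq_bot]
    by_contra hne
    exact h (h1 ▸ LinearMap.det_eq_zero_iff_ker_ne_bot.2 hne)
  rw [← h1, ← Submodule.natAbs_det_equiv _ (LinearEquiv.ofInjective _ hinj)]
  congr 2

theorem finite_cok {A : Matrix R R ℤ} (h : A.det ≠ 0) : Finite (Cok A) :=
  Nat.finite_of_card_ne_zero (by rw [card_cok h]; exact Int.natAbs_ne_zero.2 h)

/-- the character of the quotient lattice given by a point of the kernel -/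
noncomputable def kerChr (A : Matrix R R ℤ) (c : (mon A : (R → kˣ) →* _).ker) : Multiplicative (Cok A) →* kˣ :=
  AddMonoidHom.toMultiplicativeLeft (QuotientAddGroup.lift (LinearMap.range (Matrix.toLin' A.transpose)).toAddSubgroup
    (⟨⟨fun m => Additive.ofMul (chr m c.1), by rw [chr_zero]; rfl⟩, fun a b => congrArg Additive.ofMul (chr_add a b c.1)⟩ :
      (R → ℤ) →+ Additive kˣ) (by
    intro m hm
    obtain ⟨m', rfl⟩ := mem_range_toLin.1 hm
    show Additive.ofMul (chr _ c.1) = 0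
    rw [← chr_mon, c.2, map_one]
    rfl))

theorem kerChr_mk (A : Matrix R R ℤ) (c : (mon A : (R → kˣ) →* _).ker) (m : R → ℤ) :
    kerChr A c (Multiplicative.ofAdd (Submodule.Quotient.mk m)) = chr m c.1 := rfl

/-- the kernel of a monomial map is dual to the quotient lattice -/
noncomputable def kerEquiv (A : Matrix R R ℤ) :
    (mon A : (R → kˣ) →* _).ker ≃* (Multiplicative (Cok A) →* kˣ) :=
  MulEquiv.ofBijective (⟨kerChr A, fun a b => MonoidHom.ext fun x => by
    obtain ⟨m, hm⟩ := Submodule.Quotient.mk_surjective _ x.toAdd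
    rw [← ofAdd_toAdd x, ← hm, MonoidHom.mul_apply, kerChr_mk, kerChr_mk, kerChr_mk, Subgroup.coe_mul, map_mul]⟩ :
      (mon A : (R → kˣ) →* _).ker →ₙ* (Multiplicative (Cok A) →* kˣ)) (by
    constructor
    · intro a b h
      refine Subtype.ext (funext fun j => ?_)
      have := DFunLike.congr_fun h (Multiplicative.ofAdd (Submodule.Quotient.mk (Pi.single j 1)))
      rwa [MulHom.coe_mk, kerChr_mk, kerChr_mk, chr_single, chr_single] at this
    · intro φ
      have key : ∀ m : R → ℤ, chr m (fun j => φ (Multiplicative.ofAdd (Submodule.Quotient.mk (Pi.single j 1)))) =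
          φ (Multiplicative.ofAdd (Submodule.Quotient.mk m)) := by
        intro m
        have h1 : (Submodule.Quotient.mk m : Cok A) = ∑ j, m j • Submodule.Quotient.mk (Pi.single j 1) := by
          conv_lhs => rw [pi_eq_sum_univ' m]
          rw [← Submodule.mkQ_apply, map_sum]
          rfl
        rw [h1, ofAdd_sum, map_prod, chr_apply]
        exact Finset.prod_congr rfl fun j _ => by rw [ofAdd_zsmul, map_zpow]
      refine ⟨⟨fun j => φ (Multiplicative.ofAdd (Submodule.Quotient.mk (Pi.single j 1))), funext fun i => ?_⟩,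
        MonoidHom.ext fun x => ?_⟩
      · rw [mon_apply, key, (Submodule.Quotient.mk_eq_zero _).2 (mem_range_toLin.2 ⟨Pi.single i 1, by simp; rfl⟩)]
        simp
      · obtain ⟨m, hm⟩ := Submodule.Quotient.mk_surjective _ x.toAdd
        rw [← ofAdd_toAdd x, ← hm, MulHom.coe_mk, kerChr_mk, key])

theorem kerEquiv_mk (A : Matrix R R ℤ) (c : (mon A : (R → kˣ) →* _).ker) (m : R → ℤ) :
    kerEquiv A c (Multiplicative.ofAdd (Submodule.Quotient.mk m)) = chr m c.1 := rfl

theorem neZero_exponent_cok {A : Matrix R R ℤ} (h : (A.det : k) ≠ 0) :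
    NeZero ((Monoid.exponent (Multiplicative (Cok A)) : ℕ) : k) := by
  have h0 : A.det ≠ 0 := fun h1 => h (by rw [h1, Int.cast_zero])
  have := finite_cok h0
  refine ⟨fun h1 => h ?_⟩
  obtain ⟨c, hc⟩ := Group.exponent_dvd_nat_card (G := Multiplicative (Cok A))
  have h2 : ((A.det.natAbs : ℕ) : k) = 0 := by
    rw [← card_cok h0]
    exact (congrArg _ hc).trans (by rw [Nat.cast_mul, h1, zero_mul])
  rcases Int.natAbs_eq A.det with h3 | h3
  · rw [h3, Int.cast_natCast, h2]
  · rw [h3, Int.cast_neg, Int.cast_natCast, h2, neg_zero]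

variable [IsAlgClosed k]

theorem nonempty_ker_equiv {A : Matrix R R ℤ} (h : (A.det : k) ≠ 0) :
    Nonempty ((mon A : (R → kˣ) →* _).ker ≃* Multiplicative (Cok A)) := by
  have := finite_cok fun h1 => h (by rw [h1, Int.cast_zero])
  have := neZero_exponent_cok h
  obtain ⟨e⟩ := CommGroup.monoidHom_mulEquiv_of_hasEnoughRootsOfUnity (Multiplicative (Cok A)) k
  exact ⟨(kerEquiv A).trans e⟩

theorem card_ker_mon {A : Matrix R R ℤ} (h : (A.det : k) ≠ 0) :
    Nat.card (mon A : (R → kˣ) →* _).ker = A.det.natAbs := by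
  obtain ⟨e⟩ := nonempty_ker_equiv h
  rw [Nat.card_congr e.toEquiv]
  exact card_cok fun h1 => h (by rw [h1, Int.cast_zero])

/-- the characters trivial on the kernel -/
theorem chr_ker_iff {A : Matrix R R ℤ} (h : (A.det : k) ≠ 0) (m : R → ℤ) :
    (∀ c : R → kˣ, mon A c = 1 → chr m c = 1) ↔ ∃ m', Matrix.vecMul m' A = m := by
  constructor
  · intro hm
    have := finite_cok fun h1 => h (by rw [h1, Int.cast_zero])
    have := neZero_exponent_cok h
    by_contra hcon
    have h1 : (Multiplicative.ofAdd (Submodule.Quotient.mk m) : Multiplicative (Cok A)) ≠ 1 := fun h2 =>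
      hcon (mem_range_toLin.1 ((Submodule.Quotient.mk_eq_zero _).1 h2))
    obtain ⟨φ, hφ⟩ := CommGroup.exists_apply_ne_one_of_hasEnoughRootsOfUnity (Multiplicative (Cok A)) k h1
    obtain ⟨c, rfl⟩ := (kerEquiv A).surjective φ
    exact hφ (hm c.1 c.2)
  · rintro ⟨m', rfl⟩ c hc
    rw [← chr_mon, hc, map_one]

end Mon

namespace Datum

variable {p : ℕ} [Fact p.Prime] {k : Type} [Field k] [CharP k p] {Y : Type} [Group Y] {N : Type} [Fintype N]
  [DecidableEq N] {ρ : Y →* GL N k} {F : MulAut Y} {G : Subgroup Y} [IsAlgClosed k] (D : Datum p ρ F G)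

theorem det_Mx_sub_one_cast : ((D.Mx - 1).det : k) ≠ 0 := by
  obtain ⟨d, e, H⟩ := D.exists_split'
  intro h0
  have h1 := congrArg Matrix.det (Commute.mul_geom_sum₂ (Commute.one_right D.Mx) d)
  have h2 : ((p : ℤ) ^ e) • (1 : Matrix D.R D.R ℤ) - 1 = ((p : ℤ) ^ e - 1) • (1 : Matrix D.R D.R ℤ) := by
    rw [sub_smul, one_smul]
  rw [Matrix.det_mul, D.Mx_pow H, one_pow, h2, Matrix.det_smul, Matrix.det_one, mul_one] at h1
  have h3 := congrArg (Int.cast : ℤ → k) h1
  rw [Int.cast_mul, h0, zero_mul] at h3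
  push_cast at h3
  rw [CharP.cast_eq_zero, zero_pow H.e_pos.ne', zero_sub] at h3
  exact pow_ne_zero _ (neg_ne_zero.2 one_ne_zero) h3.symm

omit [IsAlgClosed k] in
theorem τ_mem_GF {c : D.R → kˣ} : D.τ c ∈ GF F G ↔ mon (D.Mx - 1) c = 1 := by
  rw [mem_GF, D.F_τ, D.τ_inj.eq_iff, mon_sub, mon_one, mul_inv_eq_one]
  exact and_iff_right (D.T_le_G ((D.mem_T _).2 ⟨c, rfl⟩))

omit [IsAlgClosed k] in
theorem TF_eq_map : D.T ⊓ GF F G = (mon (D.Mx - 1) : (D.R → kˣ) →* _).ker.map D.τ := by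
  ext t
  constructor
  · rintro ⟨h1, h2⟩
    obtain ⟨c, rfl⟩ := (D.mem_T t).1 h1
    exact ⟨c, D.τ_mem_GF.1 h2, rfl⟩
  · rintro ⟨c, hc, rfl⟩
    exact ⟨(D.mem_T _).2 ⟨c, rfl⟩, D.τ_mem_GF.2 hc⟩

/-- the order of the finite torus -/
theorem card_TF : Nat.card ↥(D.T ⊓ GF F G) = (D.Mx - 1).det.natAbs := by
  rw [TF_eq_map, Subgroup.card_map_of_injective D.τ_inj, card_ker_mon D.det_Mx_sub_one_cast]

theorem nonempty_TF_equiv : Nonempty (↥(D.T ⊓ GF F G) ≃* Multiplicative (Cok (D.Mx - 1))) := by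
  obtain ⟨e⟩ := nonempty_ker_equiv D.det_Mx_sub_one_cast
  exact ⟨(MulEquiv.subgroupCongr D.TF_eq_map).trans ((Subgroup.equivMapOfInjective _ _ D.τ_inj).symm.trans e)⟩

/-- the characters that are trivial on the finite torus -/
theorem chr_TF_iff (m : D.R → ℤ) :
    (∀ c, D.τ c ∈ GF F G → chr m c = 1) ↔ ∃ m', Matrix.vecMul m' (D.Mx - 1) = m := by
  simp only [τ_mem_GF]
  exact chr_ker_iff D.det_Mx_sub_one_cast m

/-- the finite torus of type `w` -/
theorem card_cj_TF {y : Y} (hy : y ∈ G) {w : D.W} (hw : D.Rp w (y⁻¹ * F y)) :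
    Nat.card ↥(cj y D.T ⊓ GF F G) = (D.Wm w * D.Mx - 1).det.natAbs := by
  rw [← hw.pr_eq]
  exact (D.conj hy ⟨w, hw⟩).card_TF

/-- fixed points of `F` on `W` have fixed representatives -/
theorem exists_rp_fix {w : D.W} (hw : D.Fw w = w) : ∃ m, D.Rp w m ∧ F m = m := by
  obtain ⟨m, hm, -⟩ := D.exists_rp w
  have h1 : D.Rp w (F m) := by simpa [hw] using Rp.mapF hm
  have h2 : F m * m⁻¹ ∈ D.T := Nodes.Reps.Rp.mem_of_one (by simpa using h1.mul hm.inv)
  obtain ⟨s, hs, e⟩ := D.lang_T (inv_mem h2)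
  refine ⟨s * m, by simpa using (rp_of_mem (cs := D.cs) (hN := D.nsys) hs).mul hm, ?_⟩
  rw [map_mul, ← mul_inv_cancel_left s (F s), ← e]
  group

theorem Fw_eq_of_fix {w : D.W} {m : Y} (hm : D.Rp w m) (hF : F m = m) : D.Fw w = w :=
  D.rp_unique (Rp.mapF hm) (hF.symm ▸ hm)

/-- general position in terms of the Weyl group -/
theorem genPos_iff {θ : Y → ℂ} : GenPos (GF F G) D.T θ ↔
    ∀ w m, D.Rp w m → F m = m → (∀ t ∈ D.T ⊓ GF F G, θ (m * t * m⁻¹) = θ t) → w = 1 := by
  constructor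
  · intro h w m hm hF e
    rw [← hm.pr_eq, D.pr_eq_one_iff ⟨w, hm⟩]
    exact h m ⟨Rp.mem_G hm, hF⟩ ⟨D.cj_T ⟨w, hm⟩, e⟩
  · rintro h m hm ⟨h1, h2⟩
    have h3 : m ∈ D.NN := D.mem_NN_of_conj hm.1 fun t ht => h1 ▸ conj_mem_cj.2 ht
    exact (D.pr_eq_one_iff h3).1 (h _ m (D.rp_pr h3) hm.2 h2)

end Datum

end Cfsg.Agent.DL
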