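import Cfsg.Agent.DL.Dat.Mon

/-!
# Basic structure theory of a datum (helper10)

The tower of finite levels, the group `N`, the Bruhat decomposition, coordinates, split powers of `F`.
-/

set_option autoImplicit false
set_option linter.unusedSectionVars false

namespace Cfsg.Agent.DL

open CoxeterSystem Cfsg.Agent.ChevalleyStructure.CoxeterGeom Cfsg.Agent.Tits.Roots Cfsg.Agent.Nodes.Reps
  Cfsg.Agent.Nodes.BNOf Cfsg.Agent.Nodes.Bruhat Cfsg.Agent.Nodes.NormalForm Cfsg.Agent.Nodes.StabComb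
  Cfsg.Agent.Nodes.OppDec Cfsg.Agent.LangThm Cfsg.Agent.BpExc.Tow Cfsg.Agent.KFacts.RgdField
open scoped commutatorElement Pointwise

theorem rp_congr {I W Y : Type*} [Group W] [Group Y] {M : CoxeterMatrix I} {cs : CoxeterSystem M W}
    {T T' : Subgroup Y} {n : I → Y} (e : T = T') (h : NSys M T n) (h' : NSys M T' n) {w : W} {g : Y} :
    Rp cs h w g ↔ Rp cs h' w g := by
  subst e
  rfl

namespace Datum

variable {p : ℕ} [Fact p.Prime] {k : Type} [Field k] [CharP k p] {Y : Type} [Group Y] {N : Type} [Fintype N]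
  [DecidableEq N] {ρ : Y →* GL N k} {F : MulAut Y} {G : Subgroup Y} (D : Datum p ρ F G)

/-! ### the tower -/

/-- a level from which on all multiples carry root group data -/
noncomputable def e0 : ℕ := D.rgd.choose

theorem e0_pos : 0 < D.e0 := D.rgd.choose_spec.1

/-- the torus at level `e` -/
noncomputable abbrev Te (e : ℕ) : Subgroup Y := D.T ⊓ lev p ρ e

/-- the root groups at level `e` -/
noncomputable abbrev Xe (e : ℕ) : (D.I → ℤ) → Subgroup Y := fun a => D.X a ⊓ lev p ρ e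

theorem rgd_lev {e : ℕ} (he : 0 < e) (hd : D.e0 ∣ e) : RGD D.cs D.h p (D.Te e) D.n (D.Xe e) := by
  obtain ⟨m, rfl⟩ := hd
  exact D.rgd.choose_spec.2 m (Nat.pos_of_mul_pos_left he)

/-- the levels of the tower -/
noncomputable def lv (j : ℕ) : ℕ := D.e0 * j.factorial

theorem lv_pos (j : ℕ) : 0 < D.lv j := Nat.mul_pos D.e0_pos j.factorial_pos

theorem e0_dvd_lv (j : ℕ) : D.e0 ∣ D.lv j := Dvd.intro _ rfl

theorem lv_dvd {i j : ℕ} (h : i ≤ j) : D.lv i ∣ D.lv j := Nat.mul_dvd_mul_left _ (Nat.factorial_dvd_factorial h)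

theorem dvd_lv {e : ℕ} (he : 0 < e) : e ∣ D.lv e := Dvd.dvd.mul_left (Nat.dvd_factorial he le_rfl) _

theorem exists_lv (y : Y) : ∃ j, y ∈ lev p ρ (D.lv j) := by
  obtain ⟨e, he, h⟩ := D.amb.exists_lev' y
  exact ⟨e, lev_mono (D.dvd_lv he) h⟩

theorem tow : Tow D.cs D.h p (fun j => D.Te (D.lv j)) D.n (fun j => D.Xe (D.lv j)) where
  ne := ⟨0⟩
  dir a b := ⟨max a b, le_max_left _ _, le_max_right _ _⟩
  rgd j := D.rgd_lev (D.lv_pos j) (D.e0_dvd_lv j)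
  monoT _ _ h := inf_le_inf_left _ (lev_mono (D.lv_dvd h))
  monoX _ _ _ h := inf_le_inf_left _ (lev_mono (D.lv_dvd h))

theorem TL_eq : TL (fun j => D.Te (D.lv j)) = D.T := by
  ext y
  rw [D.tow.mem_TL]
  refine ⟨fun ⟨_, h⟩ => h.1, fun h => ?_⟩
  obtain ⟨j, hj⟩ := D.exists_lv y
  exact ⟨j, h, hj⟩

theorem XL_eq : XL (fun j => D.Xe (D.lv j)) = D.X := by
  funext a
  ext y
  rw [D.tow.mem_XL]
  refine ⟨fun ⟨_, h⟩ => h.1, fun h => ?_⟩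
  obtain ⟨j, hj⟩ := D.exists_lv y
  exact ⟨j, h, hj⟩

theorem nsys : NSys D.M D.T D.n := D.TL_eq ▸ D.tow.nsys

/-- `g` represents `w` -/
abbrev Rp (w : D.W) (g : Y) : Prop := Nodes.Reps.Rp D.cs D.nsys w g

/-- the group generated by `T` and the `n i` (it is the normaliser of `T` in `G`) -/
abbrev NN : Subgroup Y := Nodes.Reps.NN D.cs D.nsys

theorem rp_iff {w : D.W} {g : Y} : D.Rp w g ↔ Nodes.Reps.Rp D.cs D.tow.nsys w g :=
  rp_congr D.TL_eq.symm _ _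

theorem mem_S_iff {S : Set (D.I → ℤ)} {y : Y} : y ∈ D.S S ↔ ∃ j, y ∈ RGD.Sup (D.Xe (D.lv j)) S := by
  rw [← D.tow.mem_Sup, XL_eq]

theorem Sup_Xe_le (e : ℕ) (S : Set (D.I → ℤ)) : RGD.Sup (D.Xe e) S ≤ D.S S :=
  RGD.Sup_le fun _ ha => inf_le_left.trans (RGD.le_Sup ha)

theorem Sup_Xe_le_lev (e : ℕ) (S : Set (D.I → ℤ)) : RGD.Sup (D.Xe e) S ≤ lev p ρ e :=
  RGD.Sup_le fun _ _ => inf_le_right

theorem Sup_Xe_mono {e e' : ℕ} (h : e ∣ e') (S : Set (D.I → ℤ)) : RGD.Sup (D.Xe e) S ≤ RGD.Sup (D.Xe e') S :=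
  RGD.Sup_le fun _ ha => (inf_le_inf_left _ (lev_mono h)).trans (RGD.le_Sup (X := D.Xe e') ha)

/-- finitely many memberships hold at one level -/
theorem exists_lev_S {ι : Type*} [Finite ι] (S : ι → Set (D.I → ℤ)) (y : ι → Y) (h : ∀ i, y i ∈ D.S (S i)) :
    ∃ e, 0 < e ∧ D.e0 ∣ e ∧ ∀ e', e ∣ e' → ∀ i, y i ∈ RGD.Sup (D.Xe e') (S i) := by
  have := Fintype.ofFinite ι
  choose j hj using fun i => D.mem_S_iff.1 (h i)
  refine ⟨D.lv (Finset.univ.sup j), D.lv_pos _, D.e0_dvd_lv _, fun e' he' i => ?_⟩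
  exact D.Sup_Xe_mono ((D.lv_dvd (Finset.le_sup (Finset.mem_univ i))).trans he') _ (hj i)

theorem T_le_G : D.T ≤ G := le_trans T_le_GG D.G_eq.le

theorem X_le_G {a : D.I → ℤ} (ha : D.Rt a) : D.X a ≤ G := le_trans (X_le_GG ha) D.G_eq.le

theorem S_le_G {S : Set (D.I → ℤ)} (hS : ∀ a ∈ S, D.Rt a) : D.S S ≤ G := RGD.Sup_le fun a ha => D.X_le_G (hS a ha)

theorem U_le_G : D.U ≤ G := D.S_le_G fun _ ha => ha.1

theorem B_le_G : D.B ≤ G := sup_le D.T_le_G D.U_le_G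

theorem GG_eq : GG D.cs D.h (TL fun j => D.Te (D.lv j)) (XL fun j => D.Xe (D.lv j)) = G := by
  rw [TL_eq, XL_eq, G_eq]

theorem T_comm {s t : Y} (hs : s ∈ D.T) (ht : t ∈ D.T) : s * t = t * s := by
  obtain ⟨c, rfl⟩ := (D.mem_T s).1 hs
  obtain ⟨d, rfl⟩ := (D.mem_T t).1 ht
  rw [← map_mul, ← map_mul, mul_comm]

theorem finite_roots : {a | D.Rt a}.Finite := RGD.finite_roots

theorem rp_of_lev {e : ℕ} (he : 0 < e) (hd : D.e0 ∣ e) {w : D.W} {g : Y}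
    (hg : Nodes.Reps.Rp D.cs (D.rgd_lev he hd).nsys w g) : D.Rp w g := by
  obtain ⟨ω, rfl⟩ := D.cs.wordProd_surjective w
  have key : ∀ ω : List D.I, Nodes.Reps.Rp D.cs (D.rgd_lev he hd).nsys (D.cs.wordProd ω) (ω.map D.n).prod ∧
      D.Rp (D.cs.wordProd ω) (ω.map D.n).prod := by
    intro ω
    induction ω with
    | nil => rw [wordProd_nil]; exact ⟨rp_one, rp_one⟩
    | cons i ω ih =>
      rw [wordProd_cons, List.map_cons, List.prod_cons]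
      exact ⟨(rp_simple _ _ i).mul ih.1, (rp_simple _ _ i).mul ih.2⟩
  obtain ⟨h1, h2⟩ := key ω
  have h3 := (h1.unique hg).1
  simpa using h2.mul_mem_right h3

theorem n_mem_lev {e : ℕ} (he : 0 < e) (hd : D.e0 ∣ e) (i : D.I) : D.n i ∈ lev p ρ e := by
  have h1 := BpExc.TorCent.n_mem (D.rgd_lev he hd) i
  exact (sup_le inf_le_right (sup_le inf_le_right inf_le_right) : _ ≤ lev p ρ e) h1

theorem rp_lev {e : ℕ} (he : 0 < e) (hd : D.e0 ∣ e) {w : D.W} {g : Y} (hg : D.Rp w g) (hl : g ∈ lev p ρ e) :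
    Nodes.Reps.Rp D.cs (D.rgd_lev he hd).nsys w g := by
  obtain ⟨k, hk, hr⟩ := exists_rp_closure (cs := D.cs) (hN := (D.rgd_lev he hd).nsys) w
  have h1 : k ∈ lev p ρ e := by
    refine (Subgroup.closure_le _).2 ?_ hk
    rintro _ ⟨i, rfl⟩
    exact D.n_mem_lev he hd i
  have h2 : k⁻¹ * g ∈ D.Te e :=
    Subgroup.mem_inf.2 ⟨(D.rp_of_lev he hd hr).unique hg, mul_mem (inv_mem h1) hl⟩
  simpa using hr.mul_mem_right h2

theorem n_mem_sup (i : D.I) : D.n i ∈ D.T ⊔ (D.X (sr i) ⊔ D.X (-sr i)) :=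
  (sup_le_sup inf_le_left (sup_le_sup inf_le_left inf_le_left) : _ ≤ D.T ⊔ (D.X (sr i) ⊔ D.X (-sr i)))
    (BpExc.TorCent.n_mem (D.rgd_lev D.e0_pos dvd_rfl) i)

theorem n_mem_G (i : D.I) : D.n i ∈ G :=
  (sup_le D.T_le_G (sup_le (D.X_le_G (isRoot_sr _ _ i)) (D.X_le_G (isRoot_sr _ _ i).neg))) (D.n_mem_sup i)

theorem NN_le_G : D.NN ≤ G := by
  rw [NN, NN_eq]
  refine sup_le D.T_le_G ((Subgroup.closure_le _).2 ?_)
  rintro _ ⟨i, rfl⟩
  exact D.n_mem_G i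

variable {D} in
theorem Rp.mem_G {w : D.W} {g : Y} (h : D.Rp w g) : g ∈ G := D.NN_le_G ⟨w, h⟩

theorem T_le_NN : D.T ≤ D.NN := fun _ ht => ⟨1, rp_of_mem ht⟩

theorem n_mem_NN (i : D.I) : D.n i ∈ D.NN := ⟨_, rp_simple _ _ i⟩

theorem conj_rp {w : D.W} {g : Y} (hg : D.Rp w g) {a : D.I → ℤ} (ha : D.Rt a) : cj g (D.X a) = D.X (D.act w a) := by
  have := D.tow.conj_rp (D.rp_iff.1 hg) ha
  rwa [XL_eq] at this

theorem conj_mem {w : D.W} {g : Y} (hg : D.Rp w g) {a : D.I → ℤ} (ha : D.Rt a) {u : Y} (hu : u ∈ D.X a) :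
    g * u * g⁻¹ ∈ D.X (D.act w a) := by
  rw [← D.conj_rp hg ha]
  exact conj_mem_cj.2 hu

theorem conj_mem_T {g : Y} (hg : g ∈ D.NN) {t : Y} (ht : t ∈ D.T) : g * t * g⁻¹ ∈ D.T := by
  obtain ⟨w, hw⟩ := hg
  exact (Subgroup.mem_normalizer_iff.1 hw.mem_normalizer t).1 ht

theorem cj_S {w : D.W} {g : Y} (hg : D.Rp w g) {S : Set (D.I → ℤ)} (hS : ∀ a ∈ S, D.Rt a) :
    cj g (D.S S) = D.S (D.act w '' S) := by
  rw [Datum.S, RGD.cj_Sup]
  apply le_antisymm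
  · refine iSup_le fun a => ?_
    rw [D.conj_rp hg (hS a a.2)]
    exact RGD.le_Sup ⟨a, a.2, rfl⟩
  · refine RGD.Sup_le ?_
    rintro _ ⟨a, ha, rfl⟩
    rw [← D.conj_rp hg (hS a ha)]
    exact le_iSup (fun z : S => cj g (D.X z.1)) ⟨a, ha⟩

theorem conj_mem_S {w : D.W} {g : Y} (hg : D.Rp w g) {S S' : Set (D.I → ℤ)} (hS : ∀ a ∈ S, D.Rt a)
    (hSS : ∀ a ∈ S, D.act w a ∈ S') {u : Y} (hu : u ∈ D.S S) : g * u * g⁻¹ ∈ D.S S' := by
  have h1 : g * u * g⁻¹ ∈ cj g (D.S S) := conj_mem_cj.2 hu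
  rw [D.cj_S hg hS] at h1
  refine RGD.Sup_mono ?_ h1
  rintro _ ⟨a, ha, rfl⟩
  exact hSS a ha

theorem T_le_normalizer {S : Set (D.I → ℤ)} (hS : ∀ a ∈ S, D.Rt a) :
    D.T ≤ Subgroup.normalizer (D.S S : Set Y) := by
  have := D.tow.T_le_normalizer hS
  rwa [TL_eq, XL_eq] at this

theorem conj_mem_S_of_T {S : Set (D.I → ℤ)} (hS : ∀ a ∈ S, D.Rt a) {t u : Y} (ht : t ∈ D.T) (hu : u ∈ D.S S) :
    t * u * t⁻¹ ∈ D.S S := (Subgroup.mem_normalizer_iff.1 (D.T_le_normalizer hS ht) u).1 hu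

theorem conj_mem_U_of_T {t u : Y} (ht : t ∈ D.T) (hu : u ∈ D.U) : t * u * t⁻¹ ∈ D.U :=
  D.conj_mem_S_of_T (fun _ ha => ha.1) ht hu

/-- commutator relations -/
theorem comm {a b : D.I → ℤ} (ha : D.Rt a) (hb : D.Rt b) (h1 : a ≠ b) (h2 : a ≠ -b) {u v : Y} (hu : u ∈ D.X a)
    (hv : v ∈ D.X b) : ⁅u, v⁆ ∈ D.S {c | Btwn D.cs D.h a b c} := by
  obtain ⟨e, he, h⟩ := D.amb.exists_lev ![u, v]
  have R := D.rgd_lev (D.lv_pos e) (D.e0_dvd_lv e)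
  have h3 := R.comm a b ha hb h1 h2 u ⟨hu, lev_mono (D.dvd_lv he) (h 0)⟩ v ⟨hv, lev_mono (D.dvd_lv he) (h 1)⟩
  exact D.Sup_Xe_le _ _ (R.btw_le_Sup (S := {c | Btwn D.cs D.h a b c}) (fun _ hz => hz) h3)

/-! ### Bruhat decomposition -/

theorem exists_normal_form {g : Y} (hg : g ∈ G) :
    ∃ w, ∃ u ∈ D.U, ∃ m, D.Rp w m ∧ ∃ v ∈ D.S (NW D.cs D.h w), g = u * m * v := by
  rw [← D.GG_eq] at hg
  obtain ⟨w, u, hu, m, hm, v, hv, e⟩ := D.tow.exists_normal_form hg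
  rw [XL_eq] at hu hv
  exact ⟨w, u, hu, m, D.rp_iff.2 hm, v, hv, e⟩

theorem normal_form_unique {w w' : D.W} {u u' m m' v v' : Y} (hu : u ∈ D.U) (hu' : u' ∈ D.U) (hm : D.Rp w m)
    (hm' : D.Rp w' m') (hv : v ∈ D.S (NW D.cs D.h w)) (hv' : v' ∈ D.S (NW D.cs D.h w'))
    (e : u * m * v = u' * m' * v') : w = w' ∧ u = u' ∧ m = m' ∧ v = v' := by
  refine D.tow.normal_form_unique ?_ ?_ (D.rp_iff.1 hm) (D.rp_iff.1 hm') ?_ ?_ e <;> rwa [XL_eq]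

theorem NW_le_U (w : D.W) : D.S (NW D.cs D.h w) ≤ D.U := RGD.Sup_mono fun _ hx => ⟨hx.1, hx.2.1⟩

theorem PW_le_U (w : D.W) : D.S (PW D.cs D.h w) ≤ D.U := RGD.Sup_mono fun _ hx => ⟨hx.1, hx.2.1⟩

theorem exists_PW_NW (w : D.W) {u : Y} (hu : u ∈ D.U) :
    ∃ b ∈ D.S (PW D.cs D.h w), ∃ c ∈ D.S (NW D.cs D.h w), u = b * c := by
  obtain ⟨j, hj⟩ := D.mem_S_iff.1 hu
  obtain ⟨b, hb, c, hc, e⟩ := Nodes.NormalForm.exists_PW_NW (D.tow.rgd j) w hj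
  exact ⟨b, D.Sup_Xe_le _ _ hb, c, D.Sup_Xe_le _ _ hc, e⟩

theorem conj_PW {w : D.W} {m : Y} (hm : D.Rp w m) {b : Y} (hb : b ∈ D.S (PW D.cs D.h w)) : m * b * m⁻¹ ∈ D.U :=
  D.conj_mem_S hm (S' := RGD.Pos D.cs D.h) (fun _ ha => ha.1) (fun _ ha => ⟨ha.1.act w, ha.2.2⟩) hb

/-- uniqueness of the middle term: `U m U ∩ N = {m}` -/
theorem eq_of_mem_UNU {w w' : D.W} {u u' m m' v v' : Y} (hu : u ∈ D.U) (hu' : u' ∈ D.U) (hm : D.Rp w m)
    (hm' : D.Rp w' m') (hv : v ∈ D.U) (hv' : v' ∈ D.U) (e : u * m * v = u' * m' * v') : w = w' ∧ m = m' := by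
  obtain ⟨b, hb, c, hc, rfl⟩ := D.exists_PW_NW w hv
  obtain ⟨b', hb', c', hc', rfl⟩ := D.exists_PW_NW w' hv'
  have := D.normal_form_unique (mul_mem hu (D.conj_PW hm hb)) (mul_mem hu' (D.conj_PW hm' hb')) hm hm' hc hc'
    (by calc _ = u * m * (b * c) := by group
          _ = u' * m' * (b' * c') := e
          _ = _ := by group)
  exact ⟨this.1, this.2.2.1⟩

theorem rp_unique {w w' : D.W} {m : Y} (hm : D.Rp w m) (hm' : D.Rp w' m) : w = w' :=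
  (D.eq_of_mem_UNU (one_mem _) (one_mem _) hm hm' (one_mem _) (one_mem _) rfl).1

open Classical in
/-- the projection `N → W` -/
noncomputable def pr (m : Y) : D.W := if h : m ∈ D.NN then h.choose else 1

theorem rp_pr {m : Y} (h : m ∈ D.NN) : D.Rp (D.pr m) m := by
  unfold pr
  rw [dif_pos h]
  exact h.choose_spec

variable {D} in
theorem Rp.pr_eq {w : D.W} {m : Y} (h : D.Rp w m) : D.pr m = w := D.rp_unique (D.rp_pr ⟨w, h⟩) h

theorem pr_mul {a b : Y} (ha : a ∈ D.NN) (hb : b ∈ D.NN) : D.pr (a * b) = D.pr a * D.pr b :=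
  Rp.pr_eq ((D.rp_pr ha).mul (D.rp_pr hb))

theorem pr_inv {a : Y} (ha : a ∈ D.NN) : D.pr a⁻¹ = (D.pr a)⁻¹ := Rp.pr_eq (D.rp_pr ha).inv

theorem pr_eq_one_iff {a : Y} (ha : a ∈ D.NN) : D.pr a = 1 ↔ a ∈ D.T :=
  ⟨fun h => (h ▸ D.rp_pr ha).mem_of_one, fun h => Rp.pr_eq (rp_of_mem h)⟩

theorem pr_n (i : D.I) : D.pr (D.n i) = D.cs.simple i := Rp.pr_eq (rp_simple _ _ i)

/-- a representative fixed by all sufficiently divisible levels -/
theorem exists_rp (w : D.W) : ∃ m, D.Rp w m ∧ m ∈ Subgroup.closure (Set.range D.n) := by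
  obtain ⟨m, h1, h2⟩ := exists_rp_closure (cs := D.cs) (hN := D.nsys) w
  exact ⟨m, h2, h1⟩

theorem mem_B {b : Y} : b ∈ D.B ↔ ∃ t ∈ D.T, ∃ u ∈ D.U, b = t * u := by
  constructor
  · intro hb
    have h1 : (D.B : Set Y) = (D.T : Set Y) * (D.U : Set Y) :=
      Subgroup.coe_mul_of_left_le_normalizer_right _ _ (D.T_le_normalizer (S := RGD.Pos D.cs D.h) fun _ ha => ha.1)
    have h2 : b ∈ (D.T : Set Y) * (D.U : Set Y) := h1 ▸ hb
    obtain ⟨t, ht, u, hu, rfl⟩ := h2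
    exact ⟨t, ht, u, hu, rfl⟩
  · rintro ⟨t, ht, u, hu, rfl⟩
    exact mul_mem (RGD.T_le_B ht) (RGD.U_le_B hu)

theorem eq_one_of_mem_U_of_mem_T {u : Y} (hu : u ∈ D.U) (ht : u ∈ D.T) : u = 1 :=
  (D.eq_of_mem_UNU (w := 1) (w' := 1) (one_mem _) hu (rp_of_mem ht) rp_one (one_mem _) (one_mem _)
    (by simp)).2

theorem mem_T_of_mem_B {m : Y} (hm : m ∈ D.NN) (hB : m ∈ D.B) : m ∈ D.T := by
  obtain ⟨t, ht, u, hu, e⟩ := D.mem_B.1 hB
  have := (D.eq_of_mem_UNU (one_mem _) (one_mem _) (D.rp_pr hm) (rp_of_mem ht) (one_mem _) hu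
    (by simpa using e)).2
  exact this ▸ ht

theorem eq_one_of_mem_U_of_mem_UN {u : Y} (hu : u ∈ D.U) (hu' : u ∈ D.S (Neg D.cs D.h)) : u = 1 := by
  obtain ⟨e, he, hd, h⟩ := D.exists_lev_S ![RGD.Pos D.cs D.h, Neg D.cs D.h] ![u, u] (by
    intro i; fin_cases i
    · exact hu
    · exact hu')
  exact eq_one_of_mem_U_of_mem_BN (D.rgd_lev he hd) (h e dvd_rfl 0) (UN_le_BN (h e dvd_rfl 1))

theorem eq_one_of_mem_X_X {a b : D.I → ℤ} (ha : D.Rt a) (hb : D.Rt b) (hab : a ≠ b) {u : Y} (hu : u ∈ D.X a)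
    (hu' : u ∈ D.X b) : u = 1 := by
  obtain ⟨j, hj⟩ := D.exists_lv u
  have h1 := X_inf_X (D.tow.rgd j) ha hb hab
  have h2 : u ∈ D.Xe (D.lv j) a ⊓ D.Xe (D.lv j) b := ⟨⟨hu, hj⟩, hu', hj⟩
  rwa [h1, Subgroup.mem_bot] at h2

theorem isPGroup_U : IsPGroup p ↥D.U := by
  rintro ⟨u, hu⟩
  obtain ⟨j, hj⟩ := D.mem_S_iff.1 hu
  obtain ⟨m, hm⟩ := (D.tow.rgd j).isPGroup_Upos ⟨u, hj⟩
  have h1 : u ^ p ^ m = 1 := congrArg Subtype.val hm
  exact ⟨m, Subtype.ext h1⟩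

/-! ### coordinates -/

theorem x_zero {a : D.I → ℤ} (ha : D.Rt a) : D.x a 0 = 1 := by
  have := D.x_add a ha 0 0
  rwa [add_zero, left_eq_mul] at this

theorem x_neg {a : D.I → ℤ} (ha : D.Rt a) (u : k) : D.x a (-u) = (D.x a u)⁻¹ := by
  rw [eq_inv_iff_mul_eq_one, ← D.x_add a ha, neg_add_cancel, D.x_zero ha]

theorem x_eq_one_iff {a : D.I → ℤ} (ha : D.Rt a) {u : k} : D.x a u = 1 ↔ u = 0 := by
  rw [← D.x_zero ha, (D.x_inj a ha).eq_iff]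

theorem X_injective {a b : D.I → ℤ} (ha : D.Rt a) (hb : D.Rt b) (h : D.X a = D.X b) : a = b := by
  by_contra hab
  have := D.eq_one_of_mem_X_X ha hb hab (D.x_mem ha 1) (h ▸ D.x_mem ha 1)
  exact one_ne_zero ((D.x_eq_one_iff ha).1 this)

theorem pairing_wt {a b : D.I → ℤ} (h : D.wt a = D.wt b) (i : D.I) : pairing D.A i a = pairing D.A i b := by
  rw [← D.pair, ← D.pair, h]

theorem tor' {a : D.I → ℤ} (ha : D.Rt a) {t : Y} (ht : t ∈ D.T) (u : k) :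
    t * D.x a u * t⁻¹ = D.x a (D.χ a t * u) := by
  obtain ⟨c, rfl⟩ := (D.mem_T t).1 ht
  rw [D.tor a ha, χ_τ]

theorem χ_ne_zero (a : D.I → ℤ) (t : Y) : D.χ a t ≠ 0 := Units.ne_zero _

theorem χ_add (a b : D.I → ℤ) (t : Y) : D.χ (a + b) t = D.χ a t * D.χ b t := by
  rw [χ, map_add, chr_add, Units.val_mul]
  rfl

theorem χ_zero (t : Y) : D.χ 0 t = 1 := by
  rw [χ, map_zero, chr_zero, Units.val_one]

theorem χ_neg (a : D.I → ℤ) (t : Y) : D.χ (-a) t = (D.χ a t)⁻¹ := by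
  rw [χ, map_neg, chr_neg, Units.val_inv_eq_inv_val]
  rfl

theorem χ_zsmul (m : ℤ) (a : D.I → ℤ) (t : Y) : D.χ (m • a) t = D.χ a t ^ m := by
  rw [χ, map_zsmul, chr_zsmul, Units.val_zpow_eq_zpow_val]
  rfl

theorem crd_mul {s t : Y} (hs : s ∈ D.T) (ht : t ∈ D.T) : D.crd (s * t) = D.crd s * D.crd t := by
  apply D.τ_inj
  rw [map_mul, D.τ_crd hs, D.τ_crd ht, D.τ_crd (mul_mem hs ht)]

theorem χ_mul (a : D.I → ℤ) {s t : Y} (hs : s ∈ D.T) (ht : t ∈ D.T) : D.χ a (s * t) = D.χ a s * D.χ a t := by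
  rw [χ, D.crd_mul hs ht, map_mul, Units.val_mul]
  rfl

theorem χ_one (a : D.I → ℤ) : D.χ a 1 = 1 := by
  rw [← map_one D.τ, χ_τ, map_one, Units.val_one]

theorem χ_inv (a : D.I → ℤ) {t : Y} (ht : t ∈ D.T) : D.χ a t⁻¹ = (D.χ a t)⁻¹ := by
  have := D.χ_mul a (inv_mem ht) ht
  rw [inv_mul_cancel, χ_one] at this
  exact eq_inv_of_mul_eq_one_left this.symm

theorem χ_n (i : D.I) (a : D.I → ℤ) {t : Y} (ht : t ∈ D.T) :
    D.χ (D.act (D.cs.simple i) a) (D.n i * t * (D.n i)⁻¹) = D.χ a t := by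
  obtain ⟨c, rfl⟩ := (D.mem_T t).1 ht
  rw [D.refl, χ_τ, χ_τ, map_mul, map_inv, chr_coch, D.pair]
  congr 1
  have h1 : pairing D.A i (D.act (D.cs.simple i) a) = -pairing D.A i a := by
    rw [act, rep_simple_eq, sub_eq_add_neg, pairing_add, ← neg_smul, pairing_smul, sr, pairing_single, D.h.diag]
    ring
  rw [h1, act, rep_simple_eq, map_sub, map_zsmul, chr_sub, chr_zsmul, zpow_neg, inv_inv, inv_mul_cancel_right]

theorem χ_rp {w : D.W} {g : Y} (hg : D.Rp w g) (a : D.I → ℤ) {t : Y} (ht : t ∈ D.T) :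
    D.χ (D.act w a) (g * t * g⁻¹) = D.χ a t := by
  obtain ⟨ω, rfl⟩ := D.cs.wordProd_surjective w
  induction ω generalizing g with
  | nil =>
    rw [wordProd_nil] at hg ⊢
    rw [D.T_comm hg.mem_of_one ht, mul_inv_cancel_right, act, map_one, Module.End.one_apply]
  | cons i ω ih =>
    rw [wordProd_cons] at hg ⊢
    have h1 : D.Rp (D.cs.wordProd ω) ((D.n i)⁻¹ * g) := by
      have := (rp_simple D.cs D.nsys i).inv.mul hg
      rwa [inv_mul_cancel_left] at this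
    have h2 := D.χ_n i (D.act (D.cs.wordProd ω) a) (D.conj_mem_T ⟨_, h1⟩ ht)
    rw [ih h1] at h2
    rw [act, rep_mul_apply, ← h2]
    congr 1
    group

theorem wt_ne_zero {a : D.I → ℤ} (ha : D.Rt a) : D.wt a ≠ 0 := by
  intro h0
  have := Fintype.ofFinite D.W
  have h1 : ∀ i, pairing D.A i a = 0 := fun i => by
    rw [← D.pair, h0]; simp
  have h2 : ∀ w : D.W, D.act w a = a := by
    intro w
    obtain ⟨ω, rfl⟩ := D.cs.wordProd_surjective w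
    induction ω with
    | nil => rw [wordProd_nil, act, map_one, Module.End.one_apply]
    | cons i ω ih =>
      rw [wordProd_cons, act, rep_mul_apply]
      rw [act] at ih
      rw [ih, rep_simple_eq, h1, zero_smul, sub_zero]
  rcases ha.pos_or_neg with h | h
  · exact ha.not_pos_neg h (h2 (Tits.Core.w0 D.cs) ▸ rep_w0_nonpos ha h)
  · exact ha.not_pos_neg (h2 (Tits.Core.w0 D.cs) ▸ rep_w0_nonneg ha h) h

end Datum

end Cfsg.Agent.DL
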