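import Cfsg.Agent.DL.Dat.Conj
import Cfsg.Agent.DL.Dat.Base
import Cfsg.Agent.DL.CF.Conn
import Cfsg.Agent.BpExc.TorCent

/-!
# The datum of a connected centraliser (helper10)

For `Z ⊆ T`, `D.cen Z = T ⊔ ⟨X a : a trivial on Z⟩` is the connected centraliser of `Z` in `G`, and `D.sub` is its
datum when the roots trivial on `Z` are permuted by `F`.
-/

set_option autoImplicit false
set_option linter.unusedSectionVars false

namespace Cfsg.Agent.DL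

open CoxeterSystem Cfsg.Agent.ChevalleyStructure.CoxeterGeom Cfsg.Agent.Tits.Roots Cfsg.Agent.Nodes.Reps
  Cfsg.Agent.Nodes.BNOf Cfsg.Agent.Nodes.Bruhat Cfsg.Agent.LangThm Cfsg.Agent.Nodes.SubComb
  Cfsg.Agent.Nodes.Coroot Cfsg.Agent.Nodes.Slope Cfsg.Agent.Nodes.NormalForm Cfsg.Agent.DL.Base
open scoped Pointwise commutatorElement

attribute [local instance] fintypeSmp decSmp

namespace Datum

variable {p : ℕ} [Fact p.Prime] {k : Type} [Field k] [CharP k p] {Y : Type} [Group Y] {N : Type} [Fintype N]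
  [DecidableEq N] {ρ : Y →* GL N k} {F : MulAut Y} {G : Subgroup Y} (D : Datum p ρ F G)

/-- the characters in the root lattice that are trivial on `Z` -/
def Lam (Z : Set Y) : AddSubgroup (D.I → ℤ) where
  carrier := {a | ∀ z ∈ Z, D.χ a z = 1}
  add_mem' ha hb z hz := by rw [χ_add, ha z hz, hb z hz, mul_one]
  zero_mem' z _ := D.χ_zero z
  neg_mem' ha z hz := by rw [χ_neg, ha z hz, inv_one]

theorem mem_Sz {Z : Set Y} {a : D.I → ℤ} : a ∈ D.Sz Z ↔ D.Rt a ∧ a ∈ D.Lam Z := Iff.rfl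

theorem Sz_root {Z : Set Y} : ∀ a ∈ D.Sz Z, D.Rt a := fun _ h => h.1

theorem Sz_neg {Z : Set Y} {a : D.I → ℤ} (h : a ∈ D.Sz Z) : -a ∈ D.Sz Z := ⟨h.1.neg, (D.Lam Z).neg_mem h.2⟩

/-- the connected centraliser of `Z ⊆ T` -/
def cen (Z : Set Y) : Subgroup Y := D.T ⊔ D.S (D.Sz Z)

theorem T_le_cen (Z : Set Y) : D.T ≤ D.cen Z := le_sup_left

theorem S_le_cen (Z : Set Y) : D.S (D.Sz Z) ≤ D.cen Z := le_sup_right

theorem cen_le_G (Z : Set Y) : D.cen Z ≤ G := sup_le D.T_le_G (D.S_le_G D.Sz_root)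

theorem cen_le_centralizer {Z : Set Y} (hZ : Z ⊆ D.T) : D.cen Z ≤ Subgroup.centralizer Z :=
  sup_le (fun _ ht _ hz => D.T_comm (hZ hz) ht) (RGD.Sup_le fun _ ha => X_le_centralizer hZ ha)

theorem cen_anti {Z Z' : Set Y} (h : Z ⊆ Z') : D.cen Z' ≤ D.cen Z :=
  sup_le_sup_left (RGD.Sup_mono (S := D.Sz Z') (S' := D.Sz Z) fun _ ha => ⟨ha.1, fun z hz => ha.2 z (h hz)⟩) _

variable {D} in
theorem Uni.inf_cen {A : Set (D.I → ℤ)} (hA : D.Uni A) {Z : Set Y} (hZ : Z ⊆ D.T) :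
    D.S A ⊓ D.cen Z = D.S (A ∩ D.Sz Z) := by
  refine le_antisymm ?_ (le_inf (RGD.Sup_mono Set.inter_subset_left)
    ((RGD.Sup_mono Set.inter_subset_right).trans (D.S_le_cen Z)))
  rw [← hA.inf_centralizer hZ]
  exact inf_le_inf_left _ (D.cen_le_centralizer hZ)

variable {D} in
theorem Uni.inf_centralizer_le {A : Set (D.I → ℤ)} (hA : D.Uni A) {Z : Set Y} (hZ : Z ⊆ D.T) :
    D.S A ⊓ Subgroup.centralizer Z ≤ D.cen Z := by
  rw [hA.inf_centralizer hZ]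
  exact (RGD.Sup_mono Set.inter_subset_right).trans (D.S_le_cen Z)

theorem uni_btwn {a b : D.I → ℤ} (ha : D.Rt a) (hb : D.Rt b) (h1 : a ≠ b) (h2 : a ≠ -b) :
    D.Uni {c | Btwn D.cs D.h a b c} := by
  obtain ⟨lam, l1, l2⟩ := exists_pos_pair ha hb h1 h2
  refine ⟨⟨fun _ h => h.1, ?_⟩, lam, fun c hc => btwn_pos' hc lam l1 l2.le⟩
  rintro x ⟨-, m, i, j, hm, hi, hj, e⟩ y ⟨-, m', i', j', hm', hi', hj', e'⟩ z ⟨hz, m'', i'', j'', hm'', hi'', hj'', e''⟩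
  refine ⟨hz, m * m' * m'', i'' * m' * i + j'' * m * i', i'' * m' * j + j'' * m * j', by positivity, by positivity,
    by positivity, ?_⟩
  calc _ = (m * m') • m'' • z := by rw [smul_smul]
    _ = (i'' * m') • m • x + (j'' * m) • m' • y := by
      rw [e'', smul_add, smul_smul, smul_smul, smul_smul, smul_smul]
      congr 2 <;> ring
    _ = _ := by
      rw [e, e']
      simp only [smul_add, add_smul, smul_smul]
      abel

variable {D} in
theorem Uni.act {A : Set (D.I → ℤ)} (hA : D.Uni A) (w : D.W) : D.Uni (D.act w '' A) := by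
  obtain ⟨lam, hl⟩ := hA.pos
  refine ⟨⟨?_, ?_⟩, lam.comp (rep D.cs D.h w⁻¹).toAddMonoidHom, ?_⟩
  · rintro _ ⟨a, ha, rfl⟩
    exact (hA.root a ha).act w
  · rintro _ ⟨a, ha, rfl⟩ _ ⟨b, hb, rfl⟩ c hc
    have := hc.act w⁻¹
    rw [rep_inv_apply, rep_inv_apply] at this
    exact ⟨_, hA.cl.btw a ha b hb _ this, rep_apply_inv _ _ _ _⟩
  · rintro _ ⟨a, ha, rfl⟩
    show 0 < lam (rep D.cs D.h w⁻¹ _)
    rw [rep_inv_apply]
    exact hl a ha

/-- elements conjugating one family of torus elements to another -/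
theorem exists_conj_form {ι : Type*} {s t : ι → Y} (hs : ∀ i, s i ∈ D.T) (ht : ∀ i, t i ∈ D.T) {y : Y} (hy : y ∈ G)
    (e : ∀ i, y * s i = t i * y) :
    ∃ c ∈ D.S (D.Sz (Set.range t)), ∃ m ∈ D.NN, (∀ i, m * s i = t i * m) ∧ y = c * m := by
  obtain ⟨w, u, hu, m, hm, v, hv, rfl⟩ := D.exists_normal_form hy
  have key : ∀ i, t i * u = u * t i ∧ m * s i = t i * m ∧ s i * v = v * s i := by
    intro i
    have h1 : D.Rp w (t i * m) := by simpa using (rp_of_mem (cs := D.cs) (hN := D.nsys) (ht i)).mul hm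
    have h2 := D.conj_mem_S_of_T (S := NW D.cs D.h w) (fun _ h => h.1) (inv_mem (hs i)) hv
    obtain ⟨-, e1, e2, e3⟩ := D.normal_form_unique hu (D.conj_mem_U_of_T (ht i) hu) (hm.mul_mem_right (hs i)) h1 h2 hv
      (by calc _ = u * m * v * s i := by group
            _ = _ := by rw [e]; group)
    refine ⟨?_, e2, ?_⟩
    · conv_rhs => rw [e1]
      group
    · conv_lhs => rw [← e3]
      group
  have hZ : Set.range t ⊆ D.T := by rintro _ ⟨i, rfl⟩; exact ht i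
  have h1 : u ∈ D.S (D.Sz (Set.range t)) := by
    have : u ∈ D.U ⊓ Subgroup.centralizer (Set.range t) := ⟨hu, by rintro _ ⟨i, rfl⟩; exact (key i).1⟩
    rw [D.uni_pos.inf_centralizer hZ] at this
    exact RGD.Sup_mono Set.inter_subset_right this
  have h2 : m * v * m⁻¹ ∈ D.S (D.Sz (Set.range t)) := by
    have h3 : m * v * m⁻¹ ∈ D.S (D.act w '' NW D.cs D.h w) ⊓ Subgroup.centralizer (Set.range t) := by
      refine ⟨D.conj_mem_S (S' := D.act w '' NW D.cs D.h w) hm (fun _ h => h.1) (fun a ha => ⟨a, ha, rfl⟩) hv, ?_⟩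
      rintro _ ⟨i, rfl⟩
      obtain ⟨-, e2, e3⟩ := key i
      have e4 : t i = m * s i * m⁻¹ := by rw [e2, mul_inv_cancel_right]
      rw [e4]
      calc _ = m * (s i * v) * m⁻¹ := by group
        _ = _ := by rw [e3]; group
    rw [((D.uni_NW w).act w).inf_centralizer hZ] at h3
    exact RGD.Sup_mono Set.inter_subset_right h3
  exact ⟨_, mul_mem h1 h2, m, ⟨w, hm⟩, fun i => (key i).2.1, by group⟩

theorem exists_cen_form {Z : Set Y} (hZ : Z ⊆ D.T) {y : Y} (hy : y ∈ G) (hc : y ∈ Subgroup.centralizer Z) :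
    ∃ c ∈ D.S (D.Sz Z), ∃ m ∈ D.NN, m ∈ Subgroup.centralizer Z ∧ y = c * m := by
  obtain ⟨c, hc1, m, hm, h, e⟩ := D.exists_conj_form (s := fun z : Z => z.1) (t := fun z : Z => z.1)
    (fun z => hZ z.2) (fun z => hZ z.2) hy fun z => (hc z z.2).symm
  rw [Subtype.range_coe] at hc1
  exact ⟨c, hc1, m, hm, fun z hz => (h ⟨z, hz⟩).symm, e⟩

theorem χ_act_of_comm {Z : Set Y} (hZ : Z ⊆ D.T) {w : D.W} {m : Y} (hm : D.Rp w m)
    (hc : m ∈ Subgroup.centralizer Z) (a : D.I → ℤ) {z : Y} (hz : z ∈ Z) : D.χ (D.act w a) z = D.χ a z := by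
  rw [← D.χ_rp hm a (hZ hz), ← hc z hz, mul_inv_cancel_right]

theorem act_mem_Sz {Z : Set Y} (hZ : Z ⊆ D.T) {w : D.W} {m : Y} (hm : D.Rp w m)
    (hc : m ∈ Subgroup.centralizer Z) {a : D.I → ℤ} (ha : a ∈ D.Sz Z) : D.act w a ∈ D.Sz Z :=
  ⟨ha.1.act w, fun z hz => by rw [D.χ_act_of_comm hZ hm hc a hz, ha.2 z hz]⟩

theorem conj_mem_cen {Z : Set Y} (hZ : Z ⊆ D.T) {y : Y} (hy : y ∈ G) (hc : y ∈ Subgroup.centralizer Z) {c : Y}
    (h : c ∈ D.cen Z) : y * c * y⁻¹ ∈ D.cen Z := by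
  obtain ⟨a, ha, m, ⟨w, hm⟩, hmc, rfl⟩ := D.exists_cen_form hZ hy hc
  have h1 : D.cen Z ≤ (D.cen Z).comap (MulAut.conj m).toMonoidHom :=
    sup_le (fun t ht => D.T_le_cen Z (D.conj_mem_T ⟨w, hm⟩ ht)) fun u hu =>
      D.S_le_cen Z (D.conj_mem_S hm D.Sz_root (fun a ha => D.act_mem_Sz hZ hm hmc ha) hu)
  have h2 : m * c * m⁻¹ ∈ D.cen Z := h1 h
  have h3 := mul_mem (mul_mem (D.S_le_cen Z ha) h2) (inv_mem (D.S_le_cen Z ha))
  convert h3 using 1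
  group

theorem relIndex_cen {Z : Set Y} (hZ : Z ⊆ D.T) : (D.cen Z).relIndex (G ⊓ Subgroup.centralizer Z) ≠ 0 := by
  set H := G ⊓ Subgroup.centralizer Z
  have hle : D.cen Z ≤ H := le_inf (D.cen_le_G Z) (D.cen_le_centralizer hZ)
  choose c hc m hm hmc e using fun y : H => D.exists_cen_form hZ (inv_mem y.2).1 (inv_mem y.2).2
  have : Finite (↥H ⧸ (D.cen Z).subgroupOf H) := by
    refine Finite.of_injective (fun q : ↥H ⧸ (D.cen Z).subgroupOf H => D.pr (m q.out)) fun q q' h => ?_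
    rw [← q.out_eq, ← q'.out_eq, QuotientGroup.eq, Subgroup.mem_subgroupOf]
    have h' : D.pr (m q.out) = D.pr (m q'.out) := h
    have h1 := (D.rp_pr (hm q.out)).inv.unique (h' ▸ D.rp_pr (hm q'.out) : D.Rp (D.pr (m q.out)) (m q'.out)).inv
    have h2 : ((q.out⁻¹ * q'.out : H) : Y) = c q.out * ((m q.out)⁻¹⁻¹ * (m q'.out)⁻¹) * (c q'.out)⁻¹ := by
      rw [Subgroup.coe_mul, Subgroup.coe_inv, e, ← inv_inv (q'.out : Y), e]
      group
    rw [h2]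
    exact mul_mem (mul_mem (D.S_le_cen Z (hc _)) (D.T_le_cen Z h1)) (inv_mem (D.S_le_cen Z (hc _)))
  exact Subgroup.index_ne_zero_of_finite

variable [IsAlgClosed k]

theorem X_le_of_T_le {M : Subgroup Y} (hT : D.T ≤ M) {a : D.I → ℤ} (ha : D.Rt a)
    (hn : ∀ u ∈ D.X a, ∀ m ∈ M, u * m * u⁻¹ ∈ M) : D.X a ≤ M := by
  classical
  intro y hy
  obtain ⟨u, rfl⟩ := (D.mem_X a ha y).1 hy
  obtain ⟨c, hc⟩ := Infinite.exists_notMem_finset ({0, 1} : Finset k)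
  simp only [Finset.mem_insert, Finset.mem_singleton, not_or] at hc
  obtain ⟨t, ht, e⟩ := D.χ_surj ha hc.1
  have h1 := mul_mem (hT ht) (hn _ (D.x_mem ha (u / (c - 1))) _ (hT (inv_mem ht)))
  have h2 : t * (D.x a (u / (c - 1)) * t⁻¹ * (D.x a (u / (c - 1)))⁻¹) = D.x a u := by
    rw [← mul_assoc, ← mul_assoc, D.tor' ha ht, e, ← D.x_neg ha, ← D.x_add a ha]
    congr 1
    field_simp [sub_ne_zero.2 hc.2]
    ring
  exact h2 ▸ h1

theorem conn_eq_cen {Z : Set Y} (hZ : Z ⊆ D.T) : CF.conn (G ⊓ Subgroup.centralizer Z) = D.cen Z :=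
  CF.conn_eq (le_inf (D.cen_le_G Z) (D.cen_le_centralizer hZ)) (D.relIndex_cen hZ) (D.T_le_cen Z)
    (fun _ ht _ hn => D.exists_pow_eq_T ht hn) fun _ hT _ hn =>
      sup_le hT (RGD.Sup_le fun _ ha => D.X_le_of_T_le hT ha.1 fun u hu => hn u (D.S_le_cen Z (RGD.le_Sup ha hu)))

theorem cco_eq_cen {s : Y} (hs : s ∈ D.T) : CF.cco G s = D.cen {s} :=
  D.conn_eq_cen (Set.singleton_subset_iff.2 hs)

include D in
theorem conn_G : CF.conn G = G := by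
  have h1 := D.conn_eq_cen (Set.empty_subset _)
  have h2 : Subgroup.centralizer (∅ : Set Y) = ⊤ := by
    rw [eq_top_iff]
    intro y _ z hz
    exact absurd hz (Set.notMem_empty z)
  rw [h2, inf_top_eq] at h1
  rw [h1]
  refine Eq.trans ?_ D.G_eq
  rw [cen, GG]
  congr 2
  ext a
  simp [Sz]

theorem g_mem_Sz {Z : Set Y} (hZ : Z ⊆ D.T) (hF : ∀ z ∈ Z, F z ∈ Z) {a : D.I → ℤ} (ha : a ∈ D.Sz Z) :
    D.g a ∈ D.Sz Z := by
  refine ⟨D.g_root a ha.1, fun z hz => ?_⟩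
  have h1 : F⁻¹ z ∈ Z := by rw [← D.amb.mem_iff hF]; simpa using hz
  have h2 := D.χ_F ha.1 (hZ h1)
  rw [ha.2 _ h1, one_pow] at h2
  simpa using h2

/-! ### the datum -/

section Sub

variable (Z : Set Y)

/-- the embedding of the root lattice of the centraliser -/
noncomputable abbrev io : (Smp D.cs D.h (D.Lam Z) → ℤ) →ₗ[ℤ] (D.I → ℤ) := iota (bs D.cs D.h (D.Lam Z))

omit [IsAlgClosed k] in
theorem io_injective : Function.Injective (D.io Z) := (subSys D.cs D.h (D.Lam Z)).iota_injective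

/-- representatives -/
noncomputable def br (j : Smp D.cs D.h (D.Lam Z)) : Y := (D.exists_rp (bw D.cs D.h (D.Lam Z) j)).choose

omit [IsAlgClosed k] in
theorem br_spec (j : Smp D.cs D.h (D.Lam Z)) :
    D.Rp (bw D.cs D.h (D.Lam Z) j) (D.br Z j) ∧ D.br Z j ∈ Subgroup.closure (Set.range D.n) :=
  (D.exists_rp (bw D.cs D.h (D.Lam Z) j)).choose_spec

/-- the simple reflections of the centraliser -/
noncomputable def bn (j : Smp D.cs D.h (D.Lam Z)) : Y := D.br Z j * D.n (bi D.cs D.h (D.Lam Z) j) * (D.br Z j)⁻¹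

omit [IsAlgClosed k] in
theorem rp_bn (j : Smp D.cs D.h (D.Lam Z)) : D.Rp (D.rf (bs D.cs D.h (D.Lam Z) j)) (D.bn Z j) := by
  rw [bs_eq, D.rf_act]
  exact ((D.br_spec Z j).1.mul (rp_simple _ _ _)).mul (D.br_spec Z j).1.inv

omit [IsAlgClosed k] in
theorem io_mem_Sz {c : Smp D.cs D.h (D.Lam Z) → ℤ} :
    D.io Z c ∈ D.Sz Z ↔ IsRoot (sys D.cs D.h (D.Lam Z)) (isCartan D.cs D.h (D.Lam Z)) c :=
  ⟨fun h => (isRoot_iff c).2 h.1, fun h => ⟨(isRoot_iff c).1 h, iota_mem c⟩⟩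

omit [IsAlgClosed k] in
theorem Sup_io (A : Set (Smp D.cs D.h (D.Lam Z) → ℤ)) :
    RGD.Sup (fun c => D.X (D.io Z c)) A = D.S (D.io Z '' A) := by
  apply le_antisymm
  · exact RGD.Sup_le fun a ha => RGD.le_Sup (S := D.io Z '' A) ⟨a, ha, rfl⟩
  · refine RGD.Sup_le ?_
    rintro _ ⟨a, ha, rfl⟩
    exact RGD.le_Sup (X := fun c => D.X (D.io Z c)) ha

omit [IsAlgClosed k] in
theorem io_roots : D.io Z '' {c | IsRoot (sys D.cs D.h (D.Lam Z)) (isCartan D.cs D.h (D.Lam Z)) c} = D.Sz Z := by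
  ext a
  constructor
  · rintro ⟨c, hc, rfl⟩
    exact (D.io_mem_Sz Z).2 hc
  · exact fun ha => exists_root (Λ := D.Lam Z) ha.1 ha.2

omit [IsAlgClosed k] in
theorem io_pos : D.io Z '' RGD.Pos (sys D.cs D.h (D.Lam Z)) (isCartan D.cs D.h (D.Lam Z)) =
    RGD.Pos D.cs D.h ∩ D.Sz Z := by
  ext a
  constructor
  · rintro ⟨c, hc, rfl⟩
    exact ⟨⟨(isRoot_iff c).1 hc.1, iota_nonneg hc.2⟩, (D.io_mem_Sz Z).2 hc.1⟩
  · rintro ⟨h1, h2⟩
    obtain ⟨c, hc, rfl⟩ := exists_root (Λ := D.Lam Z) h2.1 h2.2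
    exact ⟨c, ⟨hc, (iota_nonneg_iff hc).1 h1.2⟩, rfl⟩

variable {Z}

omit [IsAlgClosed k] in
theorem rgd_sub (hZ : Z ⊆ D.T) {d e : ℕ} (H : D.Split d e) :
    RGD (sys D.cs D.h (D.Lam Z)) (isCartan D.cs D.h (D.Lam Z)) p (D.Te e) (D.bn Z)
      (fun c => D.X (D.io Z c) ⊓ lev p ρ e) := by
  refine Nodes.Sub.rgd_sub (cs' := sys D.cs D.h (D.Lam Z)) (h' := isCartan D.cs D.h (D.Lam Z)) H.rgd
    (subSys D.cs D.h (D.Lam Z)) (fun c c' hc hc' h1 h2 u hu v hv => ?_) (g := D.br Z) fun j =>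
      D.rp_lev H.e_pos H.dvd (D.br_spec Z j).1 (H.fix_eq ▸ H.closure_n_le (D.br_spec Z j).2)
  have ha := (D.io_mem_Sz Z).2 hc
  have hb := (D.io_mem_Sz Z).2 hc'
  have h1' : D.io Z c ≠ D.io Z c' := (D.io_injective Z).ne h1
  have h2' : D.io Z c ≠ -D.io Z c' := by rw [← map_neg]; exact (D.io_injective Z).ne h2
  have hB := D.uni_btwn ha.1 hb.1 h1' h2'
  obtain ⟨L, hL⟩ := hB.exists_ord
  have hc1 : ⁅u, v⁆ ∈ Subgroup.centralizer Z := by
    have h3 := X_le_centralizer hZ ha hu.1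
    have h4 := X_le_centralizer hZ hb hv.1
    exact mul_mem (mul_mem (mul_mem h3 h4) (inv_mem h3)) (inv_mem h4)
  have hc2 : ⁅u, v⁆ ∈ fix (F ^ d) := by
    rw [H.fix_eq]
    exact mul_mem (mul_mem (mul_mem hu.2 hv.2) (inv_mem hu.2)) (inv_mem hv.2)
  obtain ⟨f, -, hf, e1⟩ := hB.exists_of_fix hL
    (fun o : Option Z => o.elim (F ^ d).toMonoidHom fun z => (MulAut.conj z.1).toMonoidHom)
    (fun o a t => o.elim (t ^ p ^ e) fun z => D.χ a z * t)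
    (fun o a ha t => by
      cases o with
      | none => exact H.x a ha.1 t
      | some z => exact D.tor' ha.1 (hZ z.2) t) (D.comm ha.1 hb.1 h1' h2' hu.1 hv.1)
    (fun o => by
      cases o with
      | none => exact hc2
      | some z => exact mul_inv_eq_iff_eq_mul.2 (hc1 z.1 z.2))
  rw [e1]
  refine D.lp_mem hL.root fun a ha h0 => ?_
  have ha' := (hL.mem a).1 ha
  obtain ⟨b, hb, rfl⟩ := exists_root (Λ := D.Lam Z) ha'.1 fun z hz =>
    (mul_left_eq_self₀.1 (hf (some ⟨z, hz⟩) a ha')).resolve_right h0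
  exact le_btw_of (X := fun c => D.Xe e (D.io Z c)) (btwn_iff.2 ha')
    ⟨D.x_mem ha'.1 _, (H.x_mem_lev ha'.1).2 (hf none _ ha')⟩

theorem io_invFun (hF : ∀ a ∈ D.Sz Z, D.g a ∈ D.Sz Z) {c : Smp D.cs D.h (D.Lam Z) → ℤ}
    (hc : IsRoot (sys D.cs D.h (D.Lam Z)) (isCartan D.cs D.h (D.Lam Z)) c) :
    D.io Z (Function.invFun (D.io Z) (D.g (D.io Z c))) = D.g (D.io Z c) := by
  have h1 := hF _ ((D.io_mem_Sz Z).2 hc)
  obtain ⟨b, -, hb⟩ := exists_root (Λ := D.Lam Z) h1.1 h1.2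
  exact Function.invFun_eq ⟨b, hb⟩

/-- the datum of the connected centraliser of `Z` -/
@[reducible] noncomputable def sub (hZ : Z ⊆ D.T) (hF : ∀ a ∈ D.Sz Z, D.g a ∈ D.Sz Z) {C : Subgroup Y}
    (hC : D.cen Z = C) : Datum p ρ F C where
  amb := D.amb
  I := Smp D.cs D.h (D.Lam Z)
  W := (cox D.cs D.h (D.Lam Z)).Group
  fW := finite_group D.cs D.h (D.Lam Z)
  M := cox D.cs D.h (D.Lam Z)
  cs := sys D.cs D.h (D.Lam Z)
  A := car D.cs D.h (D.Lam Z)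
  h := isCartan D.cs D.h (D.Lam Z)
  R := D.R
  τ := D.τ
  τ_inj := D.τ_inj
  T := D.T
  mem_T := D.mem_T
  X c := D.X (D.io Z c)
  x c := D.x (D.io Z c)
  mem_X c hc := D.mem_X _ ((isRoot_iff c).1 hc)
  x_inj c hc := D.x_inj _ ((isRoot_iff c).1 hc)
  x_add c hc := D.x_add _ ((isRoot_iff c).1 hc)
  n := D.bn Z
  wt := D.wt.comp (D.io Z).toAddMonoidHom
  cw j := D.cor (bs D.cs D.h (D.Lam Z) j)
  pair j c := by
    refine (D.pair_cor (bs_root j) _).trans ?_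
    rw [← (subSys D.cs D.h (D.Lam Z)).fn_iota, fn_apply, ← cpr_rep_sr, ← bs_eq]
    rfl
  tor c hc := D.tor _ ((isRoot_iff c).1 hc)
  refl j c := by
    rw [D.conj_τ_rf (bs_root j) (D.rp_bn Z j)]
    show _ = D.τ (c * (coch _ (chr (D.wt (D.io Z (sr j))) c))⁻¹)
    rw [iota_sr]
  rgd := by
    obtain ⟨d, e, H⟩ := D.exists_split'
    exact ⟨e, H.e_pos, fun m hm => D.rgd_sub hZ (H.mul hm)⟩
  G_eq := by
    rw [← hC, GG, Sup_io, io_roots]
    rfl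
  polyx c hc := D.polyx _ ((isRoot_iff c).1 hc)
  diag := D.diag
  g c := Function.invFun (D.io Z) (D.g (D.io Z c))
  ex c := D.ex (D.io Z c)
  g_root c hc := (isRoot_iff _).2 (by
    show D.Rt (D.io Z _)
    rw [D.io_invFun hF hc]
    exact D.g_root _ ((isRoot_iff c).1 hc))
  F_x c hc := by
    rw [D.io_invFun hF hc]
    exact D.F_x _ ((isRoot_iff c).1 hc)
  Mx := D.Mx
  F_τ := D.F_τ

variable (hZ : Z ⊆ D.T) (hF : ∀ a ∈ D.Sz Z, D.g a ∈ D.Sz Z) {C : Subgroup Y} (hC : D.cen Z = C)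

theorem sub_T : (D.sub hZ hF hC).T = D.T := rfl

theorem sub_rt {c : (D.sub hZ hF hC).I → ℤ} : (D.sub hZ hF hC).Rt c ↔ D.io Z c ∈ D.Sz Z := (D.io_mem_Sz Z).symm

theorem sub_g {c : (D.sub hZ hF hC).I → ℤ} (hc : (D.sub hZ hF hC).Rt c) :
    D.io Z ((D.sub hZ hF hC).g c) = D.g (D.io Z c) := D.io_invFun hF hc

theorem sub_S (A : Set ((D.sub hZ hF hC).I → ℤ)) : (D.sub hZ hF hC).S A = D.S (D.io Z '' A) := D.Sup_io Z A

theorem sub_U' : (D.sub hZ hF hC).U = D.S (RGD.Pos D.cs D.h ∩ D.Sz Z) := by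
  rw [← io_pos]
  exact D.Sup_io Z _

theorem sub_U : (D.sub hZ hF hC).U = D.U ⊓ C := by
  rw [sub_U', ← hC, D.uni_pos.inf_cen hZ]

theorem sub_χ (c : (D.sub hZ hF hC).I → ℤ) (t : Y) : (D.sub hZ hF hC).χ c t = D.χ (D.io Z c) t := rfl

theorem sub_qs (h : D.QS) : (D.sub hZ hF hC).QS := fun c hc h0 => by
  rw [← iota_nonneg_iff ((D.sub hZ hF hC).g_root c hc)]
  show 0 ≤ D.io Z _
  rw [D.sub_g hZ hF hC hc]
  exact h _ ((isRoot_iff c).1 hc) (iota_nonneg h0)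

/-- the Weyl group of the centraliser inside `W` -/
noncomputable def subW (Z : Set Y) : (cox D.cs D.h (D.Lam Z)).Group →* D.W :=
  (subSys D.cs D.h (D.Lam Z)).phi (sys D.cs D.h (D.Lam Z)) (isCartan D.cs D.h (D.Lam Z))

omit [IsAlgClosed k] in
theorem subW_injective (Z : Set Y) : Function.Injective (D.subW Z) := (subSys D.cs D.h (D.Lam Z)).phi_injective _ _

theorem act_subW (v : (D.sub hZ hF hC).W) (c : (D.sub hZ hF hC).I → ℤ) :
    D.act (D.subW Z v) (D.io Z c) = D.io Z ((D.sub hZ hF hC).act v c) := (subSys D.cs D.h (D.Lam Z)).rep_phi _ _ v c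

theorem subW_simple (j : (D.sub hZ hF hC).I) :
    D.subW Z ((D.sub hZ hF hC).cs.simple j) = D.rf (bs D.cs D.h (D.Lam Z) j) := by
  rw [bs_eq, D.rf_act]
  exact (subSys D.cs D.h (D.Lam Z)).phi_simple _ _ j

theorem rp_of_sub {v : (D.sub hZ hF hC).W} {m : Y} (hm : (D.sub hZ hF hC).Rp v m) : D.Rp (D.subW Z v) m := by
  obtain ⟨ω, rfl⟩ := (D.sub hZ hF hC).cs.wordProd_surjective v
  induction ω generalizing m with
  | nil =>
    rw [wordProd_nil] at hm ⊢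
    rw [map_one]
    exact rp_of_mem hm.mem_of_one
  | cons i ω ih =>
    rw [wordProd_cons] at hm ⊢
    have h1 := (rp_simple _ (D.sub hZ hF hC).nsys i).inv.mul hm
    rw [inv_mul_cancel_left] at h1
    have h2 := (D.rp_bn Z i).mul (ih h1)
    rw [map_mul, D.subW_simple hZ hF hC]
    simpa using h2

theorem sub_NN : (D.sub hZ hF hC).NN = D.NN ⊓ C := by
  rw [← normalizer_T, ← normalizer_T, sub_T, inf_comm _ C, ← inf_assoc, inf_eq_left.2 (hC ▸ D.cen_le_G Z : C ≤ G)]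

theorem subW_rf {c : (D.sub hZ hF hC).I → ℤ} (hc : (D.sub hZ hF hC).Rt c) :
    D.subW Z ((D.sub hZ hF hC).rf c) = D.rf (D.io Z c) := by
  obtain ⟨v, j, rfl⟩ := hc
  rw [(D.sub hZ hF hC).rf_act, map_mul, map_mul, map_inv, D.subW_simple hZ hF hC, ← D.rf_act' _ (bs_root j),
    ← D.act_subW hZ hF hC, iota_sr]

theorem range_subW : (D.subW Z).range = Subgroup.closure (D.rf '' D.Sz Z) := by
  apply le_antisymm
  · rintro _ ⟨v, rfl⟩
    obtain ⟨ω, rfl⟩ := (sys D.cs D.h (D.Lam Z)).wordProd_surjective v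
    induction ω with
    | nil => rw [wordProd_nil, map_one]; exact one_mem _
    | cons j ω ih =>
      rw [wordProd_cons, map_mul]
      refine mul_mem (Subgroup.subset_closure ⟨_, ⟨bs_root j, bs_mem j⟩, ?_⟩) ih
      rw [bs_eq, D.rf_act]
      exact ((subSys D.cs D.h (D.Lam Z)).phi_simple _ _ j).symm
  · rw [Subgroup.closure_le]
    rintro _ ⟨a, ha, rfl⟩
    obtain ⟨c, ⟨v, j, rfl⟩, rfl⟩ := exists_root (Λ := D.Lam Z) ha.1 ha.2
    refine ⟨v * (sys D.cs D.h (D.Lam Z)).simple j * v⁻¹, ?_⟩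
    rw [← (subSys D.cs D.h (D.Lam Z)).rep_phi, iota_sr, D.rf_act' _ (bs_root j), map_mul, map_mul, map_inv, bs_eq,
      D.rf_act]
    congr 2
    exact (subSys D.cs D.h (D.Lam Z)).phi_simple _ _ j

/-- every positive system of `G` induces a positive system of the centraliser -/
theorem exists_sub_chamber (w : D.W) : ∃ v : (D.sub hZ hF hC).W,
    D.act w '' RGD.Pos D.cs D.h ∩ D.Sz Z = D.act (D.subW Z v) '' (RGD.Pos D.cs D.h ∩ D.Sz Z) := by
  obtain ⟨v, hv⟩ := (D.sub hZ hF hC).exists_chamber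
    ((htHom.comp (rep D.cs D.h w⁻¹).toAddMonoidHom).comp (D.io Z).toAddMonoidHom)
    fun c hc => ht_ne_zero (((isRoot_iff c).1 hc).act w⁻¹)
  have key : ∀ c, (D.sub hZ hF hC).Rt c → (0 ≤ D.act w⁻¹ (D.act (D.subW Z v) (D.io Z c)) ↔ 0 ≤ D.io Z c) := by
    intro c hc
    have h1 := (((isRoot_iff c).1 hc).act (D.subW Z v)).act w⁻¹
    rw [iota_nonneg_iff hc, ← hv c hc]
    show _ ↔ 0 < ht (D.act w⁻¹ (D.io Z _))
    rw [← D.act_subW hZ hF hC]
    refine ⟨RGD.ht_pos h1, fun h => ?_⟩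
    by_contra h0
    have h2 := RGD.ht_pos h1.neg (h1.not_nonneg_iff_neg.1 h0)
    rw [← htHom_apply, map_neg] at h2
    exact lt_asymm h (neg_pos.1 h2)
  refine ⟨v, Set.ext fun a => ⟨?_, ?_⟩⟩
  · rintro ⟨⟨b, hb, rfl⟩, h2⟩
    obtain ⟨c, hc, e⟩ := exists_root (Λ := D.Lam Z) h2.1 h2.2
    have hc' := hc.act v⁻¹
    have e1 : D.act (D.subW Z v) (D.io Z ((D.sub hZ hF hC).act v⁻¹ c)) = D.act w b := by
      rw [D.act_subW hZ hF hC, act, rep_apply_inv]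
      exact e
    refine ⟨_, ⟨⟨(isRoot_iff _).1 hc', (key _ hc').1 ?_⟩, (D.io_mem_Sz Z).2 hc'⟩, e1⟩
    rw [e1, act, rep_inv_apply]
    exact hb.2
  · rintro ⟨b, ⟨hb, h2⟩, rfl⟩
    obtain ⟨c, hc, rfl⟩ := exists_root (Λ := D.Lam Z) h2.1 h2.2
    refine ⟨⟨_, ⟨(hb.1.act _).act w⁻¹, (key c hc).2 hb.2⟩, rep_apply_inv _ _ _ _⟩, ?_⟩
    rw [D.act_subW hZ hF hC]
    exact (D.io_mem_Sz Z).2 (hc.act v)

include hZ hF hC in
/-- `m U m⁻¹ ∩ C` is conjugate to `U ∩ C` under `N_C(T)` -/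
theorem exists_cj_U_inf {m : Y} (hm : m ∈ D.NN) : ∃ m' ∈ D.NN ⊓ C, cj m D.U ⊓ C = cj m' (D.U ⊓ C) := by
  obtain ⟨w, hw⟩ := hm
  obtain ⟨v, hv⟩ := D.exists_sub_chamber hZ hF hC w
  obtain ⟨m', hm'⟩ := Nodes.Reps.exists_rp _ (D.sub hZ hF hC).nsys v
  refine ⟨m', D.sub_NN hZ hF hC ▸ ⟨v, hm'⟩, ?_⟩
  rw [← hC, D.cj_S hw fun _ h => h.1, (D.uni_pos.act w).inf_cen hZ, D.uni_pos.inf_cen hZ,
    D.cj_S (D.rp_of_sub hZ hF hC hm') fun _ h => h.1.1, hv]

end Sub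

/-- elements of `C_G(Z)` of order a power of `p` modulo the connected centraliser lie in it -/
theorem mem_cen_of_pow {Z : Set Y} (hZ : Z ⊆ D.T) {y : Y} (hy : y ∈ G) (hc : y ∈ Subgroup.centralizer Z) {j : ℕ}
    (hj : y ^ p ^ j ∈ D.cen Z) : y ∈ D.cen Z := by
  obtain ⟨d, e, H⟩ := D.exists_split'
  have hF : ∀ a ∈ (D.pow H.d_pos).Sz Z, (D.pow H.d_pos).g a ∈ (D.pow H.d_pos).Sz Z := by
    intro a ha
    have : (D.pow H.d_pos).g a = a := by
      refine D.X_injective ((D.pow H.d_pos).g_root a ha.1) ha.1 ?_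
      refine ((D.pow H.d_pos).map_X ha.1).symm.trans ((D.pow H.d_pos).amb.map_eq fun y hy => ?_)
      obtain ⟨u, rfl⟩ := (D.mem_X a ha.1 y).1 hy
      rw [H.x a ha.1]
      exact D.x_mem ha.1 _
    rwa [this]
  obtain ⟨c, hc1, m, ⟨w, hm⟩, hmc, rfl⟩ := D.exists_cen_form hZ hy hc
  obtain ⟨v, hv⟩ := (D.pow H.d_pos).exists_sub_chamber hZ hF rfl w
  obtain ⟨m', hm'⟩ := Nodes.Reps.exists_rp _ ((D.pow H.d_pos).sub hZ hF rfl).nsys v
  have h1 : m' ∈ D.cen Z := Rp.mem_G hm'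
  have h2 : D.Rp ((D.pow H.d_pos).subW Z v) m' := (D.pow H.d_pos).rp_of_sub hZ hF rfl hm'
  set u := ((D.pow H.d_pos).subW Z v)⁻¹ * w with hu
  have h3 : D.Rp u (m'⁻¹ * m) := h2.inv.mul hm
  have h4 : m'⁻¹ * m ∈ Subgroup.centralizer Z := mul_mem (inv_mem (D.cen_le_centralizer hZ h1)) hmc
  have hpos : ∀ a ∈ RGD.Pos D.cs D.h ∩ D.Sz Z, D.act u a ∈ RGD.Pos D.cs D.h ∩ D.Sz Z := by
    intro a ha
    have h5 : D.act w a ∈ D.act w '' RGD.Pos D.cs D.h ∩ D.Sz Z := ⟨⟨a, ha.1, rfl⟩, D.act_mem_Sz hZ hm hmc ha.2⟩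
    obtain ⟨b, hb, e1⟩ := hv.subset h5
    have : D.act u a = b := by
      rw [hu, act, rep_mul_apply]
      exact (congrArg _ e1.symm).trans (rep_inv_apply _ _ _ _)
    rwa [this]
  have hpos' : ∀ i : ℕ, ∀ a ∈ RGD.Pos D.cs D.h ∩ D.Sz Z, D.act (u ^ i) a ∈ RGD.Pos D.cs D.h ∩ D.Sz Z := by
    intro i a ha
    induction i with
    | zero => rwa [pow_zero, act, map_one, Module.End.one_apply]
    | succ i ih => rw [pow_succ', act, rep_mul_apply]; exact hpos _ ih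
  have hmG := Rp.mem_G h3
  have h5 : ∀ i : ℕ, (c * m) ^ i * ((m'⁻¹ * m) ^ i)⁻¹ ∈ D.cen Z := by
    intro i
    induction i with
    | zero => simp
    | succ i ih =>
      have h6 := D.conj_mem_cen hZ (pow_mem hy i) (pow_mem hc i) (mul_mem (D.S_le_cen Z hc1) h1)
      convert mul_mem h6 ih using 1
      rw [pow_succ, pow_succ]
      group
  have h6 : (m'⁻¹ * m) ^ p ^ j ∈ D.cen Z := by
    simpa using mul_mem (inv_mem (h5 (p ^ j))) hj
  have h7 : u ^ p ^ j = 1 := by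
    have h8 : (m'⁻¹ * m) ^ p ^ j ∈ ((D.pow H.d_pos).sub hZ hF rfl).NN := by
      rw [sub_NN]
      exact ⟨pow_mem (⟨u, h3⟩ : _ ∈ D.NN) _, h6⟩
    obtain ⟨v', hv'⟩ := h8
    have h9 := D.rp_unique (KFacts.RgdDiag.rp_pow h3 (p ^ j)) ((D.pow H.d_pos).rp_of_sub hZ hF rfl hv')
    have h10 : v' = 1 := eq_one_of_nonneg _ ((D.pow H.d_pos).sub hZ hF rfl).h _ fun i => by
      have hi := isRoot_sr ((D.pow H.d_pos).sub hZ hF rfl).cs ((D.pow H.d_pos).sub hZ hF rfl).h i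
      have h11 := (hpos' (p ^ j) _ ⟨⟨(isRoot_iff _).1 hi, iota_nonneg (sr_nonneg i)⟩, (D.io_mem_Sz Z).2 hi⟩).1.2
      rw [h9] at h11
      exact (iota_nonneg_iff (hi.act v')).1 ((D.pow H.d_pos).act_subW hZ hF rfl v' (sr i) ▸ h11)
    rw [h9, h10, map_one]
  have h8 : u = 1 := by
    by_contra hne
    have hp : 0 < p ^ j := pow_pos (Fact.out : p.Prime).pos j
    obtain ⟨a, ha, e1⟩ := BpExc.Fix.exists_root_sum_eq_zero (cs := D.cs) (h := D.h) hne hp h7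
    have key : ∀ a, D.Rt a → 0 ≤ a → ∑ i ∈ Finset.range (p ^ j), rep D.cs D.h (u ^ i) a ≠ 0 := by
      intro a ha h0 e1
      have h9 : a ∈ D.Sz Z := ⟨ha, fun z hz => by
        have h10 : ∀ n : ℕ, D.χ (∑ i ∈ Finset.range n, rep D.cs D.h (u ^ i) a) z = D.χ a z ^ n := by
          intro n
          induction n with
          | zero => rw [Finset.sum_range_zero, χ_zero, pow_zero]
          | succ n ih =>
            rw [Finset.sum_range_succ, χ_add, ih, pow_succ]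
            congr 1
            exact D.χ_act_of_comm hZ (KFacts.RgdDiag.rp_pow h3 n) (pow_mem h4 n) a hz
        have h11 := h10 (p ^ j)
        rw [e1, χ_zero] at h11
        exact (iterateFrobenius k p j).injective (by rw [iterateFrobenius_def, ← h11, map_one])⟩
      have h10 := congrArg htHom e1
      rw [map_sum, map_zero] at h10
      refine (Finset.sum_pos (fun i _ => ?_) ⟨0, Finset.mem_range.2 hp⟩).ne' h10
      exact D.ht_pos_of_pos _ (hpos' i a ⟨⟨ha, h0⟩, h9⟩).1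
    rcases ha.pos_or_neg with h0 | h0
    · exact key a ha h0 e1
    · refine key (-a) ha.neg (neg_nonneg.2 h0) ?_
      simp only [map_neg, Finset.sum_neg_distrib, e1, neg_zero]
  rw [h8] at h3
  have h9 := mul_mem (mul_mem (D.S_le_cen Z hc1) h1) (D.T_le_cen Z h3.mem_of_one)
  simpa [mul_assoc] using h9

end Datum

end Cfsg.Agent.DL
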