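import Cfsg.Agent.DL.Dat.Prod

/-!
# Coordinates, the normaliser of `T`, the action of `F` on roots and on the Weyl group (helper10)
-/

set_option autoImplicit false
set_option linter.unusedSectionVars false

namespace Cfsg.Agent.DL

open CoxeterSystem Cfsg.Agent.ChevalleyStructure.CoxeterGeom Cfsg.Agent.Tits.Roots Cfsg.Agent.Nodes.Reps
  Cfsg.Agent.Nodes.BNOf Cfsg.Agent.Nodes.Bruhat Cfsg.Agent.Nodes.NormalForm Cfsg.Agent.Nodes.StabComb
  Cfsg.Agent.Nodes.OppDec Cfsg.Agent.LangThm Cfsg.Agent.BpExc.Tow Cfsg.Agent.Nodes.Slope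
  Cfsg.Agent.KFacts.RgdField
open scoped commutatorElement Pointwise

section Amb

variable {k : Type} [Field k] {Y : Type} [Group Y] {N : Type} [Fintype N] [DecidableEq N]
  {p : ℕ} [Fact p.Prime] [CharP k p] {ρ : Y →* GL N k} {F : MulAut Y}

theorem pow_mem_of_maps {H : Set Y} (hH : ∀ y ∈ H, F y ∈ H) (m : ℕ) {y : Y} (hy : y ∈ H) : (F ^ m) y ∈ H := by
  induction m with
  | zero => exact hy
  | succ m ih => rw [pow_succ', MulAut.mul_apply]; exact hH _ ih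

/-- a set mapped into itself by `F` is stable -/
theorem Amb.mem_iff (A : Amb p ρ F) {H : Set Y} (hH : ∀ y ∈ H, F y ∈ H) (y : Y) : F y ∈ H ↔ y ∈ H := by
  refine ⟨fun h => ?_, hH y⟩
  obtain ⟨m, hm, h1⟩ := A.exists_pow_fix fun _ : Unit => y
  obtain ⟨m, rfl⟩ : ∃ m', m = m' + 1 := ⟨m - 1, by omega⟩
  have h2 := pow_mem_of_maps hH m h
  rwa [← MulAut.mul_apply, ← pow_succ, h1 ()] at h2

theorem Amb.map_eq (A : Amb p ρ F) {H : Subgroup Y} (hH : ∀ y ∈ H, F y ∈ H) : H.map F.toMonoidHom = H := by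
  ext y
  have := A.mem_iff (H := (H : Set Y)) hH (F.symm y)
  rw [MulEquiv.apply_symm_apply] at this
  rw [Subgroup.mem_map_equiv]
  exact this.symm

/-- a chosen power of `F` that is a standard Frobenius map -/
noncomputable def Amb.d (A : Amb p ρ F) : ℕ := A.frob.choose

/-- the exponent of the chosen standard Frobenius map -/
noncomputable def Amb.e (A : Amb p ρ F) : ℕ := A.frob.choose_spec.choose

theorem Amb.d_pos (A : Amb p ρ F) : 0 < A.d := A.frob.choose_spec.choose_spec.1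

theorem Amb.e_pos (A : Amb p ρ F) : 0 < A.e := A.frob.choose_spec.choose_spec.2.1

theorem Amb.frob_de (A : Amb p ρ F) (m : ℕ) (y : Y) : ρ ((F ^ (A.d * m)) y) = LangThm.frob p (A.e * m) (ρ y) :=
  Amb.pow_frob A.frob.choose_spec.choose_spec.2.2 m y

end Amb

namespace Datum

variable {p : ℕ} [Fact p.Prime] {k : Type} [Field k] [CharP k p] {Y : Type} [Group Y] {N : Type} [Fintype N]
  [DecidableEq N] {ρ : Y →* GL N k} {F : MulAut Y} {G : Subgroup Y} (D : Datum p ρ F G)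

theorem wt_injective : Function.Injective D.wt := by
  have := Fintype.ofFinite D.W
  rw [injective_iff_map_eq_zero]
  intro a ha
  by_contra h0
  have h1 := form_pos D.cs D.h h0
  rw [form_eq_sum, Finset.sum_eq_zero] at h1
  · exact lt_irrefl _ h1
  intro i _
  have h2 := two_form D.cs D.h i a
  rw [← D.pair, ha] at h2
  simp only [Pi.zero_apply, zero_mul, Finset.sum_const_zero] at h2
  rw [show form D.cs D.h a (sr i) = 0 by omega, mul_zero]

theorem act_eq_one {w : D.W} (h : ∀ i, D.act w (sr i) = sr i) : w = 1 := eq_one_of_fix D.cs D.h w h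

theorem eq_sum_sr (a : D.I → ℤ) : a = ∑ i, a i • sr i := by
  funext j
  rw [Finset.sum_apply, Finset.sum_eq_single j]
  · rw [Pi.smul_apply, sr_self, smul_eq_mul, mul_one]
  · intro i _ hi
    rw [Pi.smul_apply, sr_ne hi.symm, smul_zero]
  · intro h; exact absurd (Finset.mem_univ j) h

theorem map_eq_sum (f : (D.I → ℤ) →+ ℤ) (a : D.I → ℤ) : f a = ∑ i, a i * f (sr i) := by
  conv_lhs => rw [D.eq_sum_sr a, map_sum]
  exact Finset.sum_congr rfl fun i _ => by rw [map_zsmul, smul_eq_mul]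

theorem pos_of_simple {f : (D.I → ℤ) →+ ℤ} (hf : ∀ i, 0 < f (sr i)) {a : D.I → ℤ} (ha : D.Rt a) (h0 : 0 ≤ a) :
    0 < f a := by
  rw [D.map_eq_sum]
  obtain ⟨i, hi⟩ := Function.ne_iff.1 ha.ne_zero
  exact Finset.sum_pos' (fun j _ => mul_nonneg (h0 j) (hf j).le)
    ⟨i, Finset.mem_univ _, mul_pos (lt_of_le_of_ne (h0 i) (Ne.symm hi)) (hf i)⟩

/-- every positive system is conjugate to the standard one -/
theorem exists_chamber (f : (D.I → ℤ) →+ ℤ) (hf : ∀ a, D.Rt a → f a ≠ 0) :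
    ∃ w : D.W, ∀ a, D.Rt a → (0 < f (D.act w a) ↔ 0 ≤ a) := by
  obtain ⟨w, hw⟩ := exists_w (cs := D.cs) (h := D.h) f hf
  have key : ∀ a, D.Rt a → 0 ≤ a → 0 < f (D.act w a) := fun a ha h0 =>
    D.pos_of_simple (f := f.comp (rep D.cs D.h w).toAddMonoidHom) hw ha h0
  refine ⟨w, fun a ha => ⟨fun h => ?_, key a ha⟩⟩
  by_contra h0
  have h1 := key (-a) ha.neg (ha.not_nonneg_iff_neg.1 h0)
  rw [act, map_neg, map_neg] at h1
  exact lt_asymm h (neg_pos.1 h1)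

theorem F_mem_T {t : Y} (ht : t ∈ D.T) : F t ∈ D.T := by
  obtain ⟨c, rfl⟩ := (D.mem_T t).1 ht
  rw [D.F_τ]
  exact D.τ_mem _

theorem F_mem_T_iff (t : Y) : F t ∈ D.T ↔ t ∈ D.T := D.amb.mem_iff (H := D.T) (fun _ => D.F_mem_T) t

theorem map_T : D.T.map F.toMonoidHom = D.T := D.amb.map_eq fun _ => D.F_mem_T

theorem F_mem_X {a : D.I → ℤ} (ha : D.Rt a) {y : Y} (hy : y ∈ D.X a) : F y ∈ D.X (D.g a) := by
  obtain ⟨u, rfl⟩ := (D.mem_X a ha y).1 hy
  obtain ⟨c, -, hc⟩ := D.F_x a ha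
  rw [hc]
  exact D.x_mem (D.g_root a ha) _

theorem F_mem_S {A B : Set (D.I → ℤ)} (hA : ∀ a ∈ A, D.Rt a) (h : ∀ a ∈ A, D.g a ∈ B) {y : Y} (hy : y ∈ D.S A) :
    F y ∈ D.S B := by
  have : D.S A ≤ (D.S B).comap F.toMonoidHom :=
    RGD.Sup_le fun a ha y hy => RGD.le_Sup (h a ha) (D.F_mem_X (hA a ha) hy)
  exact this hy

include D in
theorem F_mem_G {y : Y} (hy : y ∈ G) : F y ∈ G := by
  have h1 : GG D.cs D.h D.T D.X ≤ G.comap F.toMonoidHom :=
    sup_le (fun t ht => D.T_le_G (D.F_mem_T ht)) (RGD.Sup_le fun a ha y hy => D.X_le_G (D.g_root a ha) (D.F_mem_X ha hy))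
  exact h1 (D.G_eq.ge hy)

include D in
theorem F_mem_G_iff (y : Y) : F y ∈ G ↔ y ∈ G := D.amb.mem_iff (H := G) (fun _ => D.F_mem_G) y

include D in
theorem map_G : G.map F.toMonoidHom = G := D.amb.map_eq fun _ => D.F_mem_G

/-! ### split powers of `F` -/

/-- `F ^ d` is the standard `p ^ e`-Frobenius map of the datum. -/
structure Split (d e : ℕ) : Prop where
  d_pos : 0 < d
  e_pos : 0 < e
  dvd : D.e0 ∣ e
  frob : ∀ y, ρ ((F ^ d) y) = LangThm.frob p e (ρ y)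
  x : ∀ a, D.Rt a → ∀ u, (F ^ d) (D.x a u) = D.x a (u ^ p ^ e)
  τ : ∀ c, (F ^ d) (D.τ c) = D.τ (c ^ p ^ e)
  n : ∀ i, (F ^ d) (D.n i) = D.n i

theorem exists_level_x : ∃ e, 0 < e ∧ ∀ e', e ∣ e' → ∀ a, D.Rt a → ∀ u,
    LangThm.frob p e' (ρ (D.x a u)) = ρ (D.x a (u ^ p ^ e')) := by
  have : Finite {a // D.Rt a} := D.finite_roots.to_subtype
  choose f hf using fun q : {a // D.Rt a} × N × N => D.polyx q.1.1 q.1.2 q.2.1 q.2.2
  obtain ⟨e, he, h⟩ := exists_level_poly D.amb.lf f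
  refine ⟨e, he, fun e' he' a ha u => ?_⟩
  apply co_injective
  funext ij
  rw [co_frob]
  have h1 := hf (⟨a, ha⟩, ij)
  exact (congrArg (· ^ p ^ e') (h1 u)).trans ((h _ e' he' u).trans (h1 _).symm)

theorem exists_level_τ : ∃ e, 0 < e ∧ ∀ e', e ∣ e' → ∀ c,
    LangThm.frob p e' (ρ (D.τ c)) = ρ (D.τ (c ^ p ^ e')) := by
  obtain ⟨g₀, μ, h⟩ := D.diag
  obtain ⟨e, he, h1⟩ := exists_level_GL D.amb.lf fun _ : Unit => g₀
  refine ⟨e, he, fun e' he' c => ?_⟩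
  have h2 := frob_of_dvd (h1 ()) he'
  have h3 : LangThm.frob p e' (g₀⁻¹ * ρ (D.τ c) * g₀) = g₀⁻¹ * ρ (D.τ (c ^ p ^ e')) * g₀ := by
    apply Units.ext
    ext i j
    rw [frob_apply, h, h, Matrix.diagonal_apply, Matrix.diagonal_apply]
    split_ifs
    · rw [map_pow, Units.val_pow_eq_pow_val]
    · exact zero_pow (pow_pos (Fact.out : p.Prime).pos _).ne'
  rw [map_mul, map_mul, map_inv, h2] at h3
  exact mul_left_cancel (mul_right_cancel h3)

theorem exists_split : ∃ m₀, 0 < m₀ ∧ ∀ m, 0 < m → m₀ ∣ m → D.Split (D.amb.d * m) (D.amb.e * m) := by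
  obtain ⟨e₁, he₁, h₁⟩ := D.exists_level_x
  obtain ⟨e₂, he₂, h₂⟩ := D.exists_level_τ
  have h0 := D.e0_pos
  refine ⟨D.e0 * e₁ * e₂, by positivity, fun m hm hd => ?_⟩
  have he := Nat.mul_pos D.amb.e_pos hm
  have hd' : D.e0 * e₁ * e₂ ∣ D.amb.e * m := Dvd.dvd.mul_left hd _
  have h3 : D.e0 ∣ D.amb.e * m := ((dvd_mul_right _ _).trans (dvd_mul_right _ _)).trans hd'
  refine ⟨Nat.mul_pos D.amb.d_pos hm, he, h3, D.amb.frob_de m, fun a ha u => D.amb.inj ?_,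
    fun c => D.amb.inj ?_, fun i => D.amb.inj ?_⟩
  · rw [D.amb.frob_de, h₁ _ (((dvd_mul_left _ _).trans (dvd_mul_right _ _)).trans hd') a ha]
  · rw [D.amb.frob_de, h₂ _ ((dvd_mul_left _ _).trans hd')]
  · rw [D.amb.frob_de]
    exact D.n_mem_lev he h3 i

theorem exists_split' : ∃ d e, D.Split d e := by
  obtain ⟨m, hm, h⟩ := D.exists_split
  exact ⟨_, _, h m hm dvd_rfl⟩

namespace Split

variable {D} {d e : ℕ} (H : D.Split d e)

include H

theorem mul {m : ℕ} (hm : 0 < m) : D.Split (d * m) (e * m) := by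
  refine ⟨Nat.mul_pos H.d_pos hm, Nat.mul_pos H.e_pos hm, H.dvd.mul_right _, Amb.pow_frob H.frob m,
    fun a ha u => ?_, fun c => ?_, fun i => ?_⟩
  · clear hm
    induction m generalizing u with
    | zero => simp
    | succ m ih => rw [Nat.mul_succ, Nat.mul_succ, pow_add, MulAut.mul_apply, H.x a ha, ih, ← pow_mul, ← pow_add,
        add_comm e]
  · clear hm
    induction m generalizing c with
    | zero => simp
    | succ m ih => rw [Nat.mul_succ, Nat.mul_succ, pow_add, MulAut.mul_apply, H.τ, ih, ← pow_mul, ← pow_add,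
        add_comm e]
  · rw [pow_mul]
    exact fix_le_fix_pow m (H.n i)

theorem fix_eq : fix (F ^ d) = lev p ρ e := D.amb.fix_pow_eq H.frob

theorem rgd : RGD D.cs D.h p (D.Te e) D.n (D.Xe e) := D.rgd_lev H.e_pos H.dvd

theorem T {t : Y} (ht : t ∈ D.T) : (F ^ d) t = t ^ p ^ e := by
  obtain ⟨c, rfl⟩ := (D.mem_T t).1 ht
  rw [H.τ, map_pow]

theorem x_mem_lev {a : D.I → ℤ} (ha : D.Rt a) {u : k} : D.x a u ∈ lev p ρ e ↔ u ^ p ^ e = u := by
  rw [← H.fix_eq, mem_fix, H.x a ha, (D.x_inj a ha).eq_iff]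

theorem τ_mem_lev {c : D.R → kˣ} : D.τ c ∈ lev p ρ e ↔ c ^ p ^ e = c := by
  rw [← H.fix_eq, mem_fix, H.τ, D.τ_inj.eq_iff]

theorem closure_n_le : Subgroup.closure (Set.range D.n) ≤ fix (F ^ d) := by
  rw [Subgroup.closure_le]
  rintro _ ⟨i, rfl⟩
  exact H.n i

theorem exists_rp (w : D.W) : ∃ m, D.Rp w m ∧ (F ^ d) m = m := by
  obtain ⟨m, h1, h2⟩ := D.exists_rp w
  exact ⟨m, h1, H.closure_n_le h2⟩

theorem rp {w : D.W} {m : Y} (hm : D.Rp w m) : D.Rp w ((F ^ d) m) := by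
  obtain ⟨m', h1, h2⟩ := H.exists_rp w
  have h3 := h1.unique hm
  have h4 : (F ^ d) m = m' * (F ^ d) (m'⁻¹ * m) := by rw [map_mul, map_inv, h2, mul_inv_cancel_left]
  rw [h4, H.T h3]
  exact h1.mul_mem_right (pow_mem h3 _)

theorem mem_S {A : Set (D.I → ℤ)} (hA : ∀ a ∈ A, D.Rt a) {y : Y} (hy : y ∈ D.S A) : (F ^ d) y ∈ D.S A := by
  have : D.S A ≤ (D.S A).comap (F ^ d).toMonoidHom := RGD.Sup_le fun a ha y hy => by
    obtain ⟨u, rfl⟩ := (D.mem_X a (hA a ha) y).1 hy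
    show (F ^ d) _ ∈ D.S A
    rw [H.x a (hA a ha)]
    exact RGD.le_Sup ha (D.x_mem (hA a ha) _)
  exact this hy

theorem lp {L : List (D.I → ℤ)} (hL : ∀ a ∈ L, D.Rt a) (c : (D.I → ℤ) → k) :
    (F ^ d) (D.lp L c) = D.lp L fun a => c a ^ p ^ e :=
  D.map_lp_eq (F ^ d).toMonoidHom fun a ha => H.x a (hL a ha) _

theorem S_inf_lev {A : Set (D.I → ℤ)} (hA : D.Uni A) : D.S A ⊓ lev p ρ e = RGD.Sup (D.Xe e) A := by
  refine le_antisymm ?_ (le_inf (D.Sup_Xe_le e A) (D.Sup_Xe_le_lev e A))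
  rintro u ⟨h1, h2⟩
  rw [← H.fix_eq] at h2
  obtain ⟨L, hL⟩ := hA.exists_ord
  obtain ⟨c, -, hc, rfl⟩ := hA.exists_of_fix hL (fun _ : Unit => (F ^ d).toMonoidHom) (fun _ _ t => t ^ p ^ e)
    (fun _ a ha t => H.x a (hA.root a ha) t) h1 (fun _ => h2)
  refine D.lp_mem hL.root fun a ha _ => ?_
  have ha' := (hL.mem a).1 ha
  exact RGD.le_Sup (X := D.Xe e) ha' ⟨D.x_mem (hA.root a ha') _, (H.x_mem_lev (hA.root a ha')).2 (hc () a ha')⟩

theorem G_inf_lev : G ⊓ lev p ρ e = GG D.cs D.h (D.Te e) (D.Xe e) := by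
  refine le_antisymm ?_ (le_inf (le_trans (sup_le_sup inf_le_left (D.Sup_Xe_le e _)) D.G_eq.le)
    (sup_le inf_le_right (D.Sup_Xe_le_lev e _)))
  rintro y ⟨h1, h2⟩
  obtain ⟨w, u, hu, m, hm, v, hv, rfl⟩ := D.exists_normal_form h1
  have h3 : (F ^ d) (u * m * v) = u * m * v := by rwa [← H.fix_eq] at h2
  rw [map_mul, map_mul] at h3
  obtain ⟨-, e1, e2, e3⟩ := D.normal_form_unique (H.mem_S (fun _ h => h.1) hu) hu (H.rp hm) hm
    (H.mem_S (fun _ h => h.1) hv) hv h3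
  rw [← mem_fix, H.fix_eq] at e1 e2 e3
  have hu' : u ∈ RGD.Sup (D.Xe e) (RGD.Pos D.cs D.h) := H.S_inf_lev D.uni_pos ▸ Subgroup.mem_inf.2 ⟨hu, e1⟩
  have hv' : v ∈ RGD.Sup (D.Xe e) (NW D.cs D.h w) := H.S_inf_lev (D.uni_NW w) ▸ Subgroup.mem_inf.2 ⟨hv, e3⟩
  refine mul_mem (mul_mem (B_le_GG (RGD.U_le_B hu')) (NN_le_GG H.rgd ⟨w, D.rp_lev H.e_pos H.dvd hm e2⟩)) ?_
  exact B_le_GG (RGD.U_le_B (RGD.Sup_mono (S' := RGD.Pos D.cs D.h) (fun _ h => ⟨h.1, h.2.1⟩) hv'))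

end Split

theorem Mx_pow [Infinite k] {d e : ℕ} (H : D.Split d e) : D.Mx ^ d = ((p : ℤ) ^ e) • (1 : Matrix D.R D.R ℤ) := by
  refine mon_inj (k := k) fun c => D.τ_inj ?_
  have h1 : ∀ m : ℕ, ∀ c, (F ^ m) (D.τ c) = D.τ (mon (D.Mx ^ m) c) := by
    intro m
    induction m with
    | zero => intro c; rw [pow_zero, pow_zero, mon_one]; rfl
    | succ m ih => intro c; rw [pow_succ, pow_succ, MulAut.mul_apply, D.F_τ, ih, mon_mul]
  rw [← h1, H.τ, mon_zsmul, mon_one, ← Nat.cast_pow, zpow_natCast]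

theorem F_pow_τ (m : ℕ) (c : D.R → kˣ) : (F ^ m) (D.τ c) = D.τ (mon (D.Mx ^ m) c) := by
  induction m generalizing c with
  | zero => rw [pow_zero, pow_zero, mon_one]; rfl
  | succ m ih => rw [pow_succ, pow_succ, MulAut.mul_apply, D.F_τ, ih, mon_mul]

variable [IsAlgClosed k]

/-! ### coordinates -/

theorem χ_surj {a : D.I → ℤ} (ha : D.Rt a) {c : k} (hc : c ≠ 0) : ∃ t ∈ D.T, D.χ a t = c := by
  obtain ⟨b, hb⟩ := chr_surj (D.wt_ne_zero ha) (Units.mk0 c hc)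
  exact ⟨D.τ b, D.τ_mem b, by rw [χ_τ, hb, Units.val_mk0]⟩

theorem eq_of_χ {a b : D.I → ℤ} (h : ∀ t ∈ D.T, D.χ a t = D.χ b t) : a = b := by
  refine D.wt_injective (chr_inj (k := k) fun c => Units.ext ?_)
  rw [← χ_τ, ← χ_τ, h _ (D.τ_mem c)]

theorem exists_pow_eq_T {t : Y} (ht : t ∈ D.T) {m : ℕ} (hm : m ≠ 0) : ∃ s ∈ D.T, s ^ m = t := by
  obtain ⟨c, rfl⟩ := (D.mem_T t).1 ht
  obtain ⟨b, hb⟩ := exists_pow_eq (Int.natCast_ne_zero.2 hm) c
  exact ⟨D.τ b, D.τ_mem b, by rw [← map_pow, ← zpow_natCast, hb]⟩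

theorem nact {w : D.W} {m : Y} (hm : D.Rp w m) {a : D.I → ℤ} (ha : D.Rt a) :
    ∃ c : k, c ≠ 0 ∧ ∀ u, m * D.x a u * m⁻¹ = D.x (D.act w a) (c * u) := by
  obtain ⟨c, hc⟩ := (D.mem_X _ (ha.act w) _).1 (D.conj_mem hm ha (D.x_mem ha 1))
  have key : ∀ u, m * D.x a u * m⁻¹ = D.x (D.act w a) (c * u) := by
    intro u
    by_cases hu : u = 0
    · rw [hu, mul_zero, D.x_zero ha, D.x_zero (ha.act w), mul_one, mul_inv_cancel]
    obtain ⟨t, ht, e⟩ := D.χ_surj ha hu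
    have h1 := D.tor' ha ht 1
    rw [e, mul_one] at h1
    have h2 := D.tor' (ha.act w) (D.conj_mem_T ⟨w, hm⟩ ht) c
    rw [D.χ_rp hm a ht, e, hc, mul_comm u] at h2
    rw [← h1, ← h2]
    group
  refine ⟨c, fun h0 => ?_, key⟩
  have h1 := key 1
  rw [h0, zero_mul, D.x_zero (ha.act w), mul_inv_eq_one, mul_eq_left, D.x_eq_one_iff ha] at h1
  exact one_ne_zero h1

theorem coords : Coords D.cs D.h D.T D.n D.X D.x D.χ where
  coord a ha := ⟨D.mem_X a ha, D.x_inj a ha, D.x_add a ha, fun _ ht u => D.tor' ha ht u, by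
    rw [eq_top_iff]
    intro c _
    by_cases hc : c = 0
    · rw [hc]; exact zero_mem _
    · obtain ⟨t, ht, e⟩ := D.χ_surj ha hc
      exact AddSubgroup.subset_closure ⟨t, ht, e⟩⟩
  nact i _ ha := D.nact (rp_simple _ _ i) ha

omit [IsAlgClosed k] in
theorem chAdd : BpExc.TorCent.ChAdd D.cs D.h D.T D.χ := fun t _ =>
  ⟨fun a => D.χ a t, D.χ_zero t, fun a b => D.χ_add a b t, fun _ _ => rfl⟩

theorem Sz_T : D.Sz D.T = ∅ := by
  refine Set.eq_empty_of_forall_notMem fun a ha => ha.1.ne_zero (D.eq_of_χ fun t ht => ?_)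
  rw [ha.2 t ht, χ_zero]

theorem eq_one_of_centralizes {A : Set (D.I → ℤ)} (hA : D.Uni A) {u : Y} (hu : u ∈ D.S A)
    (hc : ∀ t ∈ D.T, t * u = u * t) : u = 1 := by
  have h1 : u ∈ D.S A ⊓ Subgroup.centralizer (D.T : Set Y) := ⟨hu, hc⟩
  rwa [hA.inf_centralizer subset_rfl, Sz_T, Set.inter_empty, Datum.S, Sup_empty, Subgroup.mem_bot] at h1

/-- `N_G(T) = N` -/
theorem mem_NN_of_conj {y : Y} (hy : y ∈ G) (hc : ∀ t ∈ D.T, y * t * y⁻¹ ∈ D.T) : y ∈ D.NN := by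
  obtain ⟨w, u, hu, m, hm, v, hv, rfl⟩ := D.exists_normal_form hy
  have key : ∀ t ∈ D.T, t * v = v * t ∧ m * t * m⁻¹ * u = u * (m * t * m⁻¹) := by
    intro t ht
    have ht' := hc t ht
    set t' := u * m * v * t * (u * m * v)⁻¹ with e
    have h1 : D.Rp w (t' * m) := by simpa using (rp_of_mem (cs := D.cs) (hN := D.nsys) ht').mul hm
    have h2 := D.conj_mem_S_of_T (S := NW D.cs D.h w) (fun _ h => h.1) (inv_mem ht) hv
    obtain ⟨-, e1, e2, e3⟩ := D.normal_form_unique hu (D.conj_mem_U_of_T ht' hu) (hm.mul_mem_right ht) h1 h2 hv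
      (by rw [e]; group)
    have e4 : m * t * m⁻¹ = t' := by rw [e2, mul_inv_cancel_right]
    refine ⟨?_, ?_⟩
    · conv_lhs => rw [← e3]
      group
    · rw [e4]
      conv_rhs => rw [e1]
      group
  have hv1 : v = 1 := D.eq_one_of_centralizes (D.uni_NW w) hv fun t ht => (key t ht).1
  have hu1 : u = 1 := D.eq_one_of_centralizes D.uni_pos hu fun t ht => by
    have := (key _ (D.conj_mem_T ⟨_, hm.inv⟩ ht)).2
    simpa [mul_assoc] using this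
  rw [hu1, hv1, one_mul, mul_one]
  exact ⟨w, hm⟩

theorem normalizer_T : G ⊓ Subgroup.normalizer (D.T : Set Y) = D.NN := by
  refine le_antisymm (fun y hy => D.mem_NN_of_conj hy.1 fun t ht => ?_)
    (le_inf D.NN_le_G fun y ⟨_, hw⟩ => hw.mem_normalizer)
  exact (Subgroup.mem_normalizer_iff.1 hy.2 t).1 ht

theorem eq_one_of_rp_comm {w : D.W} {m : Y} (hm : D.Rp w m) (hc : ∀ t ∈ D.T, t * m = m * t) : w = 1 := by
  refine D.act_eq_one fun i => D.eq_of_χ fun t ht => ?_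
  rw [← D.χ_rp hm (sr i) ht, ← hc t ht, mul_inv_cancel_right]

/-- `C_G(T) = T` -/
theorem centralizer_T : G ⊓ Subgroup.centralizer (D.T : Set Y) = D.T := by
  refine le_antisymm (fun y hy => ?_) (le_inf D.T_le_G fun s hs t ht => D.T_comm ht hs)
  obtain ⟨w, hw⟩ := D.mem_NN_of_conj hy.1 fun t ht => by rw [← hy.2 t ht, mul_inv_cancel_right]; exact ht
  have := D.eq_one_of_rp_comm hw hy.2
  subst this
  exact hw.mem_of_one

/-! ### `F` on the roots -/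

theorem F_mem_X_iff {a : D.I → ℤ} (ha : D.Rt a) (y : Y) : F y ∈ D.X (D.g a) ↔ y ∈ D.X a := by
  refine ⟨fun h => ?_, D.F_mem_X ha⟩
  obtain ⟨u, hu⟩ := (D.mem_X _ (D.g_root a ha) _).1 h
  obtain ⟨c, hc0, hc⟩ := D.F_x a ha
  obtain ⟨v, hv⟩ := IsAlgClosed.exists_pow_nat_eq (c⁻¹ * u) (pow_pos (Fact.out : p.Prime).pos (D.ex a))
  have : F (D.x a v) = F y := by rw [hc, hv, mul_inv_cancel_left₀ hc0, hu]
  rw [← F.injective this]
  exact D.x_mem ha v

theorem map_X {a : D.I → ℤ} (ha : D.Rt a) : (D.X a).map F.toMonoidHom = D.X (D.g a) := by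
  ext y
  rw [Subgroup.mem_map_equiv, ← D.F_mem_X_iff ha]
  simp

theorem g_inj {a b : D.I → ℤ} (ha : D.Rt a) (hb : D.Rt b) (h : D.g a = D.g b) : a = b := by
  refine D.X_injective ha hb ?_
  ext y
  rw [← D.F_mem_X_iff ha, ← D.F_mem_X_iff hb, h]

theorem g_bijOn {A : Set (D.I → ℤ)} (hA : ∀ a ∈ A, D.Rt a) (h : ∀ a ∈ A, D.g a ∈ A) : Set.BijOn D.g A A :=
  ((D.finite_roots.subset hA).injOn_iff_bijOn_of_mapsTo h).1 fun a ha b hb => D.g_inj (hA a ha) (hA b hb)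

theorem g_surj {b : D.I → ℤ} (hb : D.Rt b) : ∃ a, D.Rt a ∧ D.g a = b :=
  (D.g_bijOn (A := {a | D.Rt a}) (fun _ h => h) D.g_root).surjOn hb

theorem map_S {A : Set (D.I → ℤ)} (hA : ∀ a ∈ A, D.Rt a) : (D.S A).map F.toMonoidHom = D.S (D.g '' A) := by
  apply le_antisymm
  · rintro _ ⟨y, hy, rfl⟩
    exact D.F_mem_S (B := D.g '' A) hA (fun a ha => ⟨a, ha, rfl⟩) hy
  · refine RGD.Sup_le ?_
    rintro _ ⟨a, ha, rfl⟩
    rw [← D.map_X (hA a ha)]
    exact Subgroup.map_mono (RGD.le_Sup ha)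

theorem F_mem_S_iff {A : Set (D.I → ℤ)} (hA : ∀ a ∈ A, D.Rt a) (y : Y) : F y ∈ D.S (D.g '' A) ↔ y ∈ D.S A := by
  rw [← D.map_S hA, Subgroup.mem_map_equiv]
  simp

theorem χ_F {a : D.I → ℤ} (ha : D.Rt a) {t : Y} (ht : t ∈ D.T) : D.χ (D.g a) (F t) = D.χ a t ^ p ^ D.ex a := by
  obtain ⟨c, hc0, hc⟩ := D.F_x a ha
  have h1 := congrArg F (D.tor' ha ht 1)
  rw [map_mul, map_mul, map_inv, hc, hc, D.tor' (D.g_root a ha) (D.F_mem_T ht)] at h1
  have h2 := D.x_inj _ (D.g_root a ha) h1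
  rw [one_pow, mul_one, mul_one, mul_comm c] at h2
  exact mul_right_cancel₀ hc0 h2

theorem wt_g {a : D.I → ℤ} (ha : D.Rt a) : Matrix.vecMul (D.wt (D.g a)) D.Mx = ((p : ℤ) ^ D.ex a) • D.wt a := by
  refine chr_inj (k := k) fun c => Units.ext ?_
  have h1 := D.χ_F ha (D.τ_mem c)
  rw [D.F_τ, χ_τ, χ_τ, chr_mon] at h1
  rw [h1, chr_zsmul, ← Nat.cast_pow, zpow_natCast, Units.val_pow_eq_pow_val]

theorem det_Mx_ne_zero : D.Mx.det ≠ 0 := by
  obtain ⟨d, e, H⟩ := D.exists_split'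
  intro h0
  have h1 := congrArg Matrix.det (D.Mx_pow H)
  rw [Matrix.det_pow, h0, zero_pow H.d_pos.ne', Matrix.det_smul, Matrix.det_one, mul_one] at h1
  exact pow_ne_zero _ (pow_ne_zero _ (Int.natCast_ne_zero.2 (Fact.out : p.Prime).ne_zero)) h1.symm

theorem exists_ψ : ∃ ψ : (D.I → ℤ) →+ (D.I → ℤ), ∀ b, D.wt (ψ b) = Matrix.vecMul (D.wt b) D.Mx := by
  choose a ha using fun i => D.g_surj (isRoot_sr D.cs D.h i)
  refine ⟨(Fintype.linearCombination ℤ fun i => ((p : ℤ) ^ D.ex (a i)) • a i).toAddMonoidHom, fun b => ?_⟩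
  conv_rhs => rw [D.eq_sum_sr b]
  rw [LinearMap.toAddMonoidHom_coe, Fintype.linearCombination_apply, map_sum, map_sum, Matrix.sum_vecMul]
  refine Finset.sum_congr rfl fun i _ => ?_
  rw [map_zsmul, map_zsmul, map_zsmul, Matrix.smul_vecMul, ← D.wt_g (ha i).1, (ha i).2]

/-- the transpose of `F` on the root lattice: `ψ (g a) = p ^ ex a • a` -/
noncomputable def ψ : (D.I → ℤ) →+ (D.I → ℤ) := D.exists_ψ.choose

theorem wt_ψ (b : D.I → ℤ) : D.wt (D.ψ b) = Matrix.vecMul (D.wt b) D.Mx := D.exists_ψ.choose_spec b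

theorem ψ_g {a : D.I → ℤ} (ha : D.Rt a) : D.ψ (D.g a) = ((p : ℤ) ^ D.ex a) • a :=
  D.wt_injective (by rw [wt_ψ, D.wt_g ha, map_zsmul])

omit [IsAlgClosed k] in
theorem q_pos (a : D.I → ℤ) : (0 : ℤ) < (p : ℤ) ^ D.ex a :=
  pow_pos (Int.natCast_pos.2 (Fact.out : p.Prime).pos) _

theorem χ_ψ (b : D.I → ℤ) {t : Y} (ht : t ∈ D.T) : D.χ b (F t) = D.χ (D.ψ b) t := by
  obtain ⟨c, rfl⟩ := (D.mem_T t).1 ht
  rw [D.F_τ, χ_τ, χ_τ, chr_mon, wt_ψ]

theorem ψ_injective : Function.Injective D.ψ := by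
  intro a b h
  refine D.eq_of_χ fun t ht => ?_
  have h1 : F⁻¹ t ∈ D.T := by rw [← D.F_mem_T_iff]; simpa using ht
  have h2 := D.χ_ψ a h1
  rw [h, ← D.χ_ψ b h1] at h2
  simpa using h2

theorem eq_g_of_ψ {a b : D.I → ℤ} (ha : D.Rt a) (hb : D.Rt b) {c : ℤ} (hc : 0 < c) (h : D.ψ b = c • a) :
    b = D.g a := by
  obtain ⟨a', ha', rfl⟩ := D.g_surj hb
  rw [D.ψ_g ha'] at h
  rw [eq_of_cross ha' ha (D.q_pos a') hc h]

theorem g_neg {a : D.I → ℤ} (ha : D.Rt a) : D.g (-a) = -D.g a :=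
  (D.eq_g_of_ψ ha.neg (D.g_root a ha).neg (D.q_pos a) (by rw [map_neg, D.ψ_g ha, smul_neg])).symm

theorem ex_neg {a : D.I → ℤ} (ha : D.Rt a) : D.ex (-a) = D.ex a := by
  have h1 := D.ψ_g ha.neg
  rw [D.g_neg ha, map_neg, D.ψ_g ha, smul_neg, neg_inj] at h1
  have h2 := smul_left_injective ℤ ha.ne_zero h1
  exact (Nat.pow_right_injective (Fact.out : p.Prime).two_le (by exact_mod_cast h2)).symm

theorem btwn_g {a b c : D.I → ℤ} (ha : D.Rt a) (hb : D.Rt b) (hc : D.Rt c) :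
    Btwn D.cs D.h (D.g a) (D.g b) (D.g c) ↔ Btwn D.cs D.h a b c := by
  have qa := D.q_pos a
  have qb := D.q_pos b
  have qc := D.q_pos c
  constructor
  · rintro ⟨-, m, i, j, hm, hi, hj, e⟩
    have h1 := congrArg D.ψ e
    rw [map_add, map_zsmul, map_zsmul, map_zsmul, D.ψ_g ha, D.ψ_g hb, D.ψ_g hc, smul_smul, smul_smul, smul_smul] at h1
    exact ⟨hc, _, _, _, mul_pos hm qc, mul_pos hi qa, mul_pos hj qb, h1⟩
  · rintro ⟨-, m, i, j, hm, hi, hj, e⟩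
    refine ⟨D.g_root c hc, m * (p ^ D.ex a * p ^ D.ex b), i * (p ^ D.ex c * p ^ D.ex b), j * (p ^ D.ex c * p ^ D.ex a),
      by positivity, by positivity, by positivity, D.ψ_injective ?_⟩
    rw [map_add, map_zsmul, map_zsmul, map_zsmul, D.ψ_g ha, D.ψ_g hb, D.ψ_g hc, smul_smul, smul_smul, smul_smul]
    have h1 := congrArg (fun v => ((p : ℤ) ^ D.ex a * p ^ D.ex b * p ^ D.ex c) • v) e
    simp only [smul_add, smul_smul] at h1
    convert h1 using 2 <;> ring_nf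

variable {D} in
theorem Cl.g {A : Set (D.I → ℤ)} (hA : D.Cl A) : D.Cl (D.g '' A) := by
  refine ⟨?_, ?_⟩
  · rintro _ ⟨a, ha, rfl⟩
    exact D.g_root a (hA.root a ha)
  · rintro _ ⟨a, ha, rfl⟩ _ ⟨b, hb, rfl⟩ c hc
    obtain ⟨c', hc', rfl⟩ := D.g_surj hc.1
    exact ⟨c', hA.btw a ha b hb c' ((D.btwn_g (hA.root a ha) (hA.root b hb) hc').1 hc), rfl⟩

variable {D} in
theorem Uni.g {A : Set (D.I → ℤ)} (hA : D.Uni A) : D.Uni (D.g '' A) := by
  obtain ⟨lam, hl⟩ := hA.pos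
  refine ⟨Cl.g hA.cl, lam.comp D.ψ, ?_⟩
  rintro _ ⟨a, ha, rfl⟩
  rw [AddMonoidHom.comp_apply, D.ψ_g (hA.root a ha), map_zsmul, smul_eq_mul]
  exact mul_pos (D.q_pos a) (hl a ha)

/-! ### `F` on the Weyl group -/

theorem F_mem_NN {m : Y} (hm : m ∈ D.NN) : F m ∈ D.NN := by
  refine D.mem_NN_of_conj (D.F_mem_G (D.NN_le_G hm)) fun t ht => ?_
  have h1 : F⁻¹ t ∈ D.T := by rw [← D.F_mem_T_iff]; simpa using ht
  simpa using D.F_mem_T (D.conj_mem_T hm h1)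

theorem F_mem_NN_iff (m : Y) : F m ∈ D.NN ↔ m ∈ D.NN := D.amb.mem_iff (H := D.NN) (fun _ => D.F_mem_NN) m

theorem exists_Fw : ∃ φ : MulAut D.W, ∀ w m, D.Rp w m → D.Rp (φ w) (F m) := by
  choose r hr using fun w => Nodes.Reps.exists_rp D.cs D.nsys w
  have key : ∀ w m, D.Rp w m → D.Rp (D.pr (F (r w))) (F m) := fun w m hm => by
    have h1 := (D.rp_pr (D.F_mem_NN ⟨w, hr w⟩)).mul_mem_right (D.F_mem_T ((hr w).unique hm))
    simpa using h1
  let f : D.W →* D.W := MonoidHom.mk' (fun w => D.pr (F (r w))) fun v w => by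
    have h1 := key _ _ ((hr v).mul (hr w))
    rw [map_mul] at h1
    exact D.rp_unique h1 ((key _ _ (hr v)).mul (key _ _ (hr w)))
  have hinj : Function.Injective f := by
    rw [injective_iff_map_eq_one]
    intro w hw
    have h1 := key w _ (hr w)
    have h2 : D.pr (F (r w)) = 1 := hw
    rw [h2] at h1
    exact D.rp_unique (hr w) (rp_of_mem ((D.F_mem_T_iff _).1 h1.mem_of_one))
  exact ⟨MulEquiv.ofBijective f (Finite.injective_iff_bijective.1 hinj), key⟩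

/-- the automorphism of `W` induced by `F` -/
noncomputable def Fw : MulAut D.W := D.exists_Fw.choose

variable {D} in
theorem Rp.mapF {w : D.W} {m : Y} (hm : D.Rp w m) : D.Rp (D.Fw w) (F m) := D.exists_Fw.choose_spec w m hm

theorem pr_F {m : Y} (hm : m ∈ D.NN) : D.pr (F m) = D.Fw (D.pr m) := Rp.pr_eq (Rp.mapF (D.rp_pr hm))

theorem g_act (w : D.W) {a : D.I → ℤ} (ha : D.Rt a) : D.g (D.act w a) = D.act (D.Fw w) (D.g a) := by
  obtain ⟨m, hm⟩ := Nodes.Reps.exists_rp D.cs D.nsys w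
  refine D.X_injective (D.g_root _ (ha.act w)) ((D.g_root a ha).act _) ?_
  rw [← D.map_X (ha.act w), ← D.conj_rp hm ha, ← D.conj_rp (Rp.mapF hm) (D.g_root a ha), ← D.map_X ha]
  exact (Nodes.RGDLib.cj_map F.toMonoidHom m (D.X a)).symm

theorem Fw_pow {d e : ℕ} (H : D.Split d e) : D.Fw ^ d = 1 := by
  have key : ∀ j : ℕ, ∀ w m, D.Rp w m → D.Rp ((D.Fw ^ j) w) ((F ^ j) m) := by
    intro j
    induction j with
    | zero => exact fun _ _ h => h
    | succ j ih => intro w m h; rw [pow_succ', pow_succ']; exact Rp.mapF (ih w m h)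
  ext w
  obtain ⟨m, hm⟩ := Nodes.Reps.exists_rp D.cs D.nsys w
  exact D.rp_unique (key d w m hm) (H.rp hm)

theorem exists_wF : ∃ w : D.W, ∀ a, D.Rt a → (0 ≤ D.act w⁻¹ (D.g a) ↔ 0 ≤ a) := by
  obtain ⟨w, hw⟩ := D.exists_chamber (htHom.comp D.ψ) fun b hb => by
    obtain ⟨a, ha, rfl⟩ := D.g_surj hb
    rw [AddMonoidHom.comp_apply, D.ψ_g ha, map_zsmul, smul_eq_mul]
    exact mul_ne_zero (D.q_pos a).ne' (ht_ne_zero ha)
  refine ⟨w, fun a ha => ?_⟩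
  rw [← hw _ ((D.g_root a ha).act _), act, rep_apply_inv, AddMonoidHom.comp_apply, D.ψ_g ha, map_zsmul,
    smul_eq_mul, mul_pos_iff_of_pos_left (D.q_pos a)]
  refine ⟨fun h => ?_, fun h => RGD.ht_pos ha h⟩
  by_contra h0
  have h1 := RGD.ht_pos ha.neg (ha.not_nonneg_iff_neg.1 h0)
  rw [← htHom_apply, map_neg] at h1
  exact lt_asymm h (neg_pos.1 h1)

/-- the relative position of `B` and `F B` -/
noncomputable def wF : D.W := D.exists_wF.choose

theorem wF_spec {a : D.I → ℤ} (ha : D.Rt a) : 0 ≤ D.act D.wF⁻¹ (D.g a) ↔ 0 ≤ a := D.exists_wF.choose_spec a ha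

theorem g_pos : D.g '' RGD.Pos D.cs D.h = D.act D.wF '' RGD.Pos D.cs D.h := by
  ext b
  constructor
  · rintro ⟨a, ha, rfl⟩
    exact ⟨_, ⟨(D.g_root a ha.1).act _, (D.wF_spec ha.1).2 ha.2⟩, rep_apply_inv _ _ _ _⟩
  · rintro ⟨c, hc, rfl⟩
    obtain ⟨a, ha, e⟩ := D.g_surj (hc.1.act D.wF)
    refine ⟨a, ⟨ha, (D.wF_spec ha).1 ?_⟩, e⟩
    rw [e, act, rep_inv_apply]
    exact hc.2

/-- `F U = m U m⁻¹` for a representative `m` of `wF` -/
theorem map_U {m : Y} (hm : D.Rp D.wF m) : D.U.map F.toMonoidHom = cj m D.U := by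
  rw [D.map_S fun _ h => h.1, D.cj_S hm fun _ h => h.1, g_pos]

theorem F_mem_iff_U {m : Y} (hm : D.Rp D.wF m) (y : Y) : m⁻¹ * F y * m ∈ D.U ↔ y ∈ D.U := by
  rw [← mem_cj, ← D.map_U hm, Subgroup.mem_map_equiv]
  simp

theorem exists_perm : ∃ σ : Equiv.Perm D.I, ∀ i, D.act D.wF⁻¹ (D.g (sr i)) = sr (σ i) := by
  have key : ∀ i, ∃ j, D.act D.wF⁻¹ (D.g (sr i)) = sr j := by
    intro i
    have hi := isRoot_sr D.cs D.h i
    set b := D.act D.wF⁻¹ (D.g (sr i)) with hb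
    have hbr : D.Rt b := (D.g_root _ hi).act _
    have hb0 : 0 ≤ b := (D.wF_spec hi).2 (sr_nonneg i)
    obtain ⟨j, hj⟩ := Function.ne_iff.1 hbr.ne_zero
    choose a ha using fun l => D.g_surj ((isRoot_sr D.cs D.h l).act D.wF)
    have ha0 : ∀ l, 0 ≤ a l := fun l => by
      rw [← D.wF_spec (ha l).1, (ha l).2, act, rep_inv_apply]
      exact sr_nonneg l
    have h1 : ((p : ℤ) ^ D.ex (sr i)) • sr i = ∑ l, b l • ((p : ℤ) ^ D.ex (a l)) • a l := by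
      rw [← D.ψ_g hi, ← rep_apply_inv D.cs D.h D.wF (D.g (sr i))]
      show D.ψ (D.act D.wF b) = _
      conv_lhs => rw [D.eq_sum_sr b, act, map_sum, map_sum]
      refine Finset.sum_congr rfl fun l _ => ?_
      rw [map_zsmul, map_zsmul, ← (ha l).2, D.ψ_g (ha l).1]
    have h2 : a j = sr i := by
      refine (ha j).1.eq_sr (ha0 j) i fun l hl => ?_
      have h3 := congrFun h1 l
      rw [Pi.smul_apply, sr_ne hl, smul_zero, Finset.sum_apply, eq_comm, Finset.sum_eq_zero_iff_of_nonneg] at h3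
      · have h4 := h3 j (Finset.mem_univ j)
        simp only [Pi.smul_apply, smul_eq_mul] at h4
        exact (mul_eq_zero.1 ((mul_eq_zero.1 h4).resolve_left hj)).resolve_left (D.q_pos _).ne'
      · intro l' _
        simp only [Pi.smul_apply, smul_eq_mul]
        exact mul_nonneg (hb0 l') (mul_nonneg (D.q_pos _).le (ha0 l' l))
    exact ⟨j, by rw [hb, ← h2, (ha j).2, act, rep_inv_apply]⟩
  choose f hf using key
  have hsr : Function.Injective (sr : D.I → D.I → ℤ) := fun i j h => by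
    by_contra hij
    have := congrFun h i
    rw [sr_self, sr_ne hij] at this
    exact one_ne_zero this
  have hinj : Function.Injective f := fun i j h => by
    have h1 := hf i
    rw [h, ← hf j] at h1
    exact hsr (D.g_inj (isRoot_sr _ _ i) (isRoot_sr _ _ j) (rep_injective_apply _ _ _ h1))
  exact ⟨Equiv.ofBijective f (Finite.injective_iff_bijective.1 hinj), hf⟩

/-- the diagram permutation of `F` -/
noncomputable def σ : Equiv.Perm D.I := D.exists_perm.choose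

theorem g_sr (i : D.I) : D.g (sr i) = D.act D.wF (sr (D.σ i)) := by
  rw [σ, ← D.exists_perm.choose_spec i, act, act, rep_apply_inv]

/-- the frame is quasi-split: `F` fixes the Borel subgroup -/
def QS : Prop := ∀ a, D.Rt a → 0 ≤ a → 0 ≤ D.g a

omit [IsAlgClosed k] in
theorem qs_iff : D.QS ↔ ∀ a, D.Rt a → 0 ≤ a → 0 ≤ D.g a := Iff.rfl

theorem qs_iff_wF : D.QS ↔ D.wF = 1 := by
  constructor
  · intro h
    refine eq_one_of_nonneg D.cs D.h _ fun i => ?_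
    obtain ⟨j, rfl⟩ := D.σ.surjective i
    have := h _ (isRoot_sr _ _ j) (sr_nonneg j)
    rwa [g_sr] at this
  · intro h a ha h0
    have := (D.wF_spec ha).2 h0
    rwa [h, inv_one, act, map_one, Module.End.one_apply] at this

variable {D}

theorem QS.g_sr (h : D.QS) (i : D.I) : D.g (sr i) = sr (D.σ i) := by
  rw [D.g_sr, D.qs_iff_wF.1 h, act, map_one, Module.End.one_apply]

theorem QS.nonneg_iff (h : D.QS) {a : D.I → ℤ} (ha : D.Rt a) : 0 ≤ D.g a ↔ 0 ≤ a := by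
  have := D.wF_spec ha
  rwa [D.qs_iff_wF.1 h, inv_one, act, map_one, Module.End.one_apply] at this

theorem QS.F_mem_U (h : D.QS) (y : Y) : F y ∈ D.U ↔ y ∈ D.U := by
  have := D.F_mem_iff_U (m := 1) (D.qs_iff_wF.1 h ▸ rp_one) y
  simpa using this

theorem QS.F_mem_B (h : D.QS) (y : Y) : F y ∈ D.B ↔ y ∈ D.B := by
  refine D.amb.mem_iff (H := D.B) (fun y hy => ?_) y
  obtain ⟨t, ht, u, hu, rfl⟩ := D.mem_B.1 hy
  exact D.mem_B.2 ⟨_, D.F_mem_T ht, _, (h.F_mem_U u).2 hu, map_mul _ _ _⟩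

end Datum

end Cfsg.Agent.DL
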