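import Cfsg.Agent.DL.Datum

/-!
# Monomial characters, levels (helper10)
-/

set_option autoImplicit false
set_option linter.unusedSectionVars false

namespace Cfsg.Agent.DL

open Cfsg.Agent.LangThm

section Mon

variable {R : Type} [Fintype R] {k : Type} [Field k]

theorem chr_zero (c : R → kˣ) : chr (0 : R → ℤ) c = 1 := by simp [chr_apply]

theorem chr_add (m m' : R → ℤ) (c : R → kˣ) : chr (m + m') c = chr m c * chr m' c := by
  simp [chr_apply, zpow_add, Finset.prod_mul_distrib]

theorem chr_neg (m : R → ℤ) (c : R → kˣ) : chr (-m) c = (chr m c)⁻¹ := by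
  simp [chr_apply, Finset.prod_inv_distrib]

theorem chr_sub (m m' : R → ℤ) (c : R → kˣ) : chr (m - m') c = chr m c * (chr m' c)⁻¹ := by
  rw [sub_eq_add_neg, chr_add, chr_neg]

theorem chr_zsmul (a : ℤ) (m : R → ℤ) (c : R → kˣ) : chr (a • m) c = chr m c ^ a := by
  simp only [chr_apply, Pi.smul_apply, smul_eq_mul]
  rw [← Finset.prod_zpow]
  exact Finset.prod_congr rfl fun j _ => by rw [mul_comm, zpow_mul]

theorem chr_nsmul (a : ℕ) (m : R → ℤ) (c : R → kˣ) : chr (a • m) c = chr m c ^ a := by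
  rw [← zpow_natCast, ← chr_zsmul, natCast_zsmul]

theorem chr_sum {ι : Type*} (s : Finset ι) (m : ι → R → ℤ) (c : R → kˣ) :
    chr (∑ i ∈ s, m i) c = ∏ i ∈ s, chr (m i) c := by
  classical
  induction s using Finset.induction_on with
  | empty => simp [chr_zero]
  | insert a s ha ih => rw [Finset.sum_insert ha, Finset.prod_insert ha, chr_add, ih]

theorem zpow_sum' {ι : Type*} (s : Finset ι) (a : kˣ) (f : ι → ℤ) : a ^ (∑ i ∈ s, f i) = ∏ i ∈ s, a ^ f i := by
  classical
  induction s using Finset.induction_on with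
  | empty => simp
  | insert i s hi ih => rw [Finset.sum_insert hi, Finset.prod_insert hi, zpow_add, ih]

theorem chr_coch (m m' : R → ℤ) (a : kˣ) : chr m (coch m' a) = a ^ (∑ j, m j * m' j) := by
  rw [chr_apply, zpow_sum']
  exact Finset.prod_congr rfl fun j _ => by rw [coch_apply, ← zpow_mul, mul_comm]

theorem chr_single [DecidableEq R] (j : R) (c : R → kˣ) : chr (Pi.single j 1) c = c j := by
  rw [chr_apply, Finset.prod_eq_single j]
  · simp
  · intro i _ hi
    simp [hi]
  · intro h; exact absurd (Finset.mem_univ j) h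

theorem chr_mon (m : R → ℤ) (Mx : Matrix R R ℤ) (c : R → kˣ) : chr m (mon Mx c) = chr (Matrix.vecMul m Mx) c := by
  have : Matrix.vecMul m Mx = ∑ i, m i • Mx i := by
    funext j
    simp [Matrix.vecMul, dotProduct, Finset.sum_apply]
  rw [this, chr_sum, chr_apply]
  exact Finset.prod_congr rfl fun i _ => by rw [mon_apply, chr_zsmul]

theorem mon_coch (Mx : Matrix R R ℤ) (m : R → ℤ) (a : kˣ) : mon Mx (coch m a) = coch (Mx.mulVec m) a := by
  funext i
  rw [mon_apply, chr_coch, coch_apply]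
  rfl

theorem mon_mul (A B : Matrix R R ℤ) (c : R → kˣ) : mon (A * B) c = mon A (mon B c) := by
  funext i
  rw [mon_apply, mon_apply, chr_mon]
  rfl

theorem mon_one [DecidableEq R] (c : R → kˣ) : mon (1 : Matrix R R ℤ) c = c := by
  funext i
  rw [mon_apply, ← chr_single i c]
  congr 2
  funext j
  rw [Matrix.one_apply, Pi.single_apply]
  exact if_congr eq_comm rfl rfl

theorem mon_add (A B : Matrix R R ℤ) (c : R → kˣ) : mon (A + B) c = mon A c * mon B c := by
  funext i
  exact chr_add (A i) (B i) c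

theorem mon_neg (A : Matrix R R ℤ) (c : R → kˣ) : mon (-A) c = (mon A c)⁻¹ := by
  funext i
  exact chr_neg (A i) c

theorem mon_sub (A B : Matrix R R ℤ) (c : R → kˣ) : mon (A - B) c = mon A c * (mon B c)⁻¹ := by
  rw [sub_eq_add_neg, mon_add, mon_neg]

theorem mon_zsmul (a : ℤ) (A : Matrix R R ℤ) (c : R → kˣ) : mon (a • A) c = mon A c ^ a := by
  funext i
  exact chr_zsmul a (A i) c

theorem mon_pow [DecidableEq R] (A : Matrix R R ℤ) (n : ℕ) (c : R → kˣ) : mon (A ^ n) c = (mon A)^[n] c := by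
  induction n with
  | zero => rw [pow_zero, mon_one]; rfl
  | succ n ih => rw [pow_succ', mon_mul, ih, Function.iterate_succ_apply']

theorem coch_add (m m' : R → ℤ) (a : kˣ) : coch (m + m') a = coch m a * coch m' a := by
  funext j
  exact zpow_add a _ _

theorem coch_neg (m : R → ℤ) (a : kˣ) : coch (-m) a = (coch m a)⁻¹ := by
  funext j
  exact zpow_neg a _

theorem coch_zsmul (b : ℤ) (m : R → ℤ) (a : kˣ) : coch (b • m) a = coch m (a ^ b) := by
  funext j
  exact zpow_mul a b (m j)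

theorem prod_coch_single [DecidableEq R] (c : R → kˣ) : ∏ j, coch (Pi.single j 1) (c j) = c := by
  funext i
  rw [Finset.prod_apply, Finset.prod_eq_single i]
  · simp [coch_apply]
  · intro j _ hj
    simp [coch_apply, hj.symm]
  · intro h; exact absurd (Finset.mem_univ i) h

/-- an integer killing all units of an infinite field is zero -/
theorem eq_zero_of_zpow [Infinite k] {n : ℤ} (h : ∀ a : kˣ, a ^ n = 1) : n = 0 := by
  by_contra hn
  have h1 : ∀ a : kˣ, a ^ n.natAbs = 1 := fun a => by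
    rcases Int.natAbs_eq n with e | e
    · rw [← zpow_natCast, ← e, h]
    · have := h a
      rw [e, zpow_neg, inv_eq_one, zpow_natCast] at this
      exact this
  classical
  have h0 : 0 < n.natAbs := Int.natAbs_pos.2 hn
  have h2 : (Set.univ : Set k) ⊆ insert 0 ((Polynomial.nthRoots n.natAbs (1 : k)).toFinset : Set k) := fun a _ => by
    by_cases ha : a = 0
    · exact Or.inl ha
    · refine Or.inr ?_
      rw [Finset.mem_coe, Multiset.mem_toFinset, Polynomial.mem_nthRoots h0]
      simpa using congrArg Units.val (h1 (Units.mk0 a ha))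
  exact Set.infinite_univ (((Finset.finite_toSet _).insert 0).subset h2)

theorem chr_inj [Infinite k] {m m' : R → ℤ} (h : ∀ c : R → kˣ, chr m c = chr m' c) : m = m' := by
  classical
  funext j
  rw [← sub_eq_zero]
  refine eq_zero_of_zpow (k := k) fun a => ?_
  have h1 := h (coch (Pi.single j 1) a)
  rw [chr_coch, chr_coch] at h1
  simp only [Pi.single_apply, mul_ite, mul_one, mul_zero, Finset.sum_ite_eq', Finset.mem_univ, if_true] at h1
  rw [zpow_sub, h1, mul_inv_cancel]

theorem mon_inj [Infinite k] {A B : Matrix R R ℤ} (h : ∀ c : R → kˣ, mon A c = mon B c) : A = B := by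
  ext i j
  exact congrFun (chr_inj (k := k) fun c => congrFun (h c) i) j

theorem coch_inj [Infinite k] {m m' : R → ℤ} (h : ∀ a : kˣ, coch m a = coch m' a) : m = m' := by
  funext j
  rw [← sub_eq_zero]
  refine eq_zero_of_zpow (k := k) fun a => ?_
  have h1 : a ^ m j = a ^ m' j := congrFun (h a) j
  rw [zpow_sub, h1, mul_inv_cancel]

theorem exists_zpow_eq [IsAlgClosed k] {n : ℤ} (hn : n ≠ 0) (a : kˣ) : ∃ b : kˣ, b ^ n = a := by
  have key : ∀ a : kˣ, ∃ b : kˣ, b ^ n.natAbs = a := fun a => by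
    obtain ⟨b, hb⟩ := IsAlgClosed.exists_pow_nat_eq (a : k) (Int.natAbs_pos.2 hn)
    have hb0 : b ≠ 0 := by
      rintro rfl
      rw [zero_pow (Int.natAbs_ne_zero.2 hn)] at hb
      exact a.ne_zero hb.symm
    exact ⟨Units.mk0 b hb0, Units.ext (by simpa using hb)⟩
  rcases Int.natAbs_eq n with e | e
  · obtain ⟨b, hb⟩ := key a
    exact ⟨b, by rw [e, zpow_natCast, hb]⟩
  · obtain ⟨b, hb⟩ := key a⁻¹
    exact ⟨b, by rw [e, zpow_neg, zpow_natCast, hb, inv_inv]⟩

theorem chr_surj [IsAlgClosed k] {m : R → ℤ} (hm : m ≠ 0) (a : kˣ) : ∃ c : R → kˣ, chr m c = a := by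
  classical
  obtain ⟨j, hj⟩ := Function.ne_iff.1 hm
  obtain ⟨b, hb⟩ := exists_zpow_eq hj a
  refine ⟨coch (Pi.single j 1) b, ?_⟩
  rw [chr_coch]
  simp only [Pi.single_apply, mul_ite, mul_one, mul_zero, Finset.sum_ite_eq', Finset.mem_univ, if_true]
  exact hb

theorem exists_pow_eq [IsAlgClosed k] {n : ℤ} (hn : n ≠ 0) (c : R → kˣ) : ∃ b : R → kˣ, b ^ n = c := by
  choose b hb using fun j => exists_zpow_eq hn (c j)
  exact ⟨b, funext hb⟩

/-- a monomial map with nonzero determinant is onto -/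
theorem mon_surj [IsAlgClosed k] [DecidableEq R] {A : Matrix R R ℤ} (hA : A.det ≠ 0) (c : R → kˣ) :
    ∃ b, mon A b = c := by
  obtain ⟨b, hb⟩ := exists_pow_eq hA c
  refine ⟨mon A.adjugate b, ?_⟩
  rw [← mon_mul, Matrix.mul_adjugate, mon_zsmul, mon_one, hb]

end Mon

section Lev

variable {k : Type} [Field k] {Y : Type} [Group Y] {N : Type} [Fintype N] [DecidableEq N]
  {p : ℕ} [Fact p.Prime] [CharP k p] {ρ : Y →* GL N k} {F : MulAut Y}

theorem frob_eq_iff {e : ℕ} {g : GL N k} :
    frob p e g = g ↔ ∀ i j, (g : Matrix N N k) i j ^ p ^ e = (g : Matrix N N k) i j := by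
  constructor
  · intro h i j
    have := co_frob p e g (i, j)
    rw [h] at this
    exact this.symm
  · intro h
    apply co_injective
    funext ij
    rw [co_frob]
    exact h ij.1 ij.2

theorem frob_apply (e : ℕ) (g : GL N k) (i j : N) :
    (frob p e g : Matrix N N k) i j = (g : Matrix N N k) i j ^ p ^ e := co_frob p e g (i, j)

theorem pow_pow_mul {a : k} {e : ℕ} (h : a ^ p ^ e = a) (m : ℕ) : a ^ p ^ (e * m) = a := by
  induction m with
  | zero => simp
  | succ m ih => rw [Nat.mul_succ, pow_add, pow_mul, ih, h]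

theorem pow_pow_of_dvd {a : k} {e e' : ℕ} (h : a ^ p ^ e = a) (he : e ∣ e') : a ^ p ^ e' = a := by
  obtain ⟨m, rfl⟩ := he
  exact pow_pow_mul h m

theorem frob_of_dvd {g : GL N k} {e e' : ℕ} (h : frob p e g = g) (he : e ∣ e') : frob p e' g = g :=
  frob_eq_iff.2 fun i j => pow_pow_of_dvd (frob_eq_iff.1 h i j) he

theorem lev_mono {e e' : ℕ} (he : e ∣ e') : lev p ρ e ≤ lev p ρ e' := fun _ hy => frob_of_dvd hy he

theorem frob_injective (e : ℕ) : Function.Injective (frob p e : GL N k → GL N k) := by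
  intro g g' h
  apply co_injective
  funext ij
  have h1 := congrFun (congrArg co h) ij
  rw [co_frob, co_frob] at h1
  exact (iterateFrobenius k p e).injective (by rw [iterateFrobenius_def, iterateFrobenius_def, h1])

/-- finitely many elements of a locally finite field lie in a finite subfield -/
theorem exists_level_fin (lf : ∀ a : k, ∃ m, 0 < m ∧ a ^ p ^ m = a) {ι : Type*} [Finite ι] (f : ι → k) :
    ∃ e, 0 < e ∧ ∀ i, f i ^ p ^ e = f i := by
  have := Fintype.ofFinite ι
  choose m hm0 hm using fun i => lf (f i)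
  exact ⟨∏ i, m i, Finset.prod_pos fun i _ => hm0 i,
    fun i => pow_pow_of_dvd (hm i) (Finset.dvd_prod_of_mem _ (Finset.mem_univ i))⟩

theorem exists_level_GL (lf : ∀ a : k, ∃ m, 0 < m ∧ a ^ p ^ m = a) {ι : Type*} [Finite ι] (f : ι → GL N k) :
    ∃ e, 0 < e ∧ ∀ i, frob p e (f i) = f i := by
  obtain ⟨e, he, h⟩ := exists_level_fin lf fun q : ι × N × N => (f q.1 : Matrix N N k) q.2.1 q.2.2
  exact ⟨e, he, fun i => frob_eq_iff.2 fun a b => h (i, a, b)⟩

theorem exists_level_poly (lf : ∀ a : k, ∃ m, 0 < m ∧ a ^ p ^ m = a) {ι : Type*} [Finite ι]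
    (f : ι → Polynomial k) : ∃ e, 0 < e ∧ ∀ i e', e ∣ e' → ∀ u : k, (f i).eval u ^ p ^ e' = (f i).eval (u ^ p ^ e') := by
  obtain ⟨e, he, h⟩ := exists_level_fin lf fun q : Σ i, (f i).support => (f q.1).coeff q.2
  refine ⟨e, he, fun i e' he' u => ?_⟩
  rw [Polynomial.eval_eq_sum, Polynomial.eval_eq_sum, Polynomial.sum, Polynomial.sum, sum_pow_char_pow]
  refine Finset.sum_congr rfl fun n hn => ?_
  rw [mul_pow, pow_pow_of_dvd (h ⟨i, n, hn⟩) he', ← pow_mul, ← pow_mul, mul_comm n]

theorem Amb.exists_lev (H : Amb p ρ F) {ι : Type*} [Finite ι] (f : ι → Y) : ∃ e, 0 < e ∧ ∀ i, f i ∈ lev p ρ e :=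
  exists_level_GL H.lf fun i => ρ (f i)

theorem Amb.exists_lev' (H : Amb p ρ F) (y : Y) : ∃ e, 0 < e ∧ y ∈ lev p ρ e := by
  obtain ⟨e, he, h⟩ := H.exists_lev fun _ : Unit => y
  exact ⟨e, he, h ()⟩

theorem finite_pow_eq {e : ℕ} (he : 0 < e) : {a : k | a ^ p ^ e = a}.Finite := by
  classical
  have h1 : 1 < p ^ e := Nat.one_lt_pow he.ne' (Fact.out : p.Prime).one_lt
  refine (((Polynomial.X ^ p ^ e - Polynomial.X : Polynomial k).roots.toFinset).finite_toSet).subset fun z hz => ?_
  simp only [Finset.mem_coe, Multiset.mem_toFinset]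
  rw [Polynomial.mem_roots (FiniteField.X_pow_card_sub_X_ne_zero _ h1)]
  simpa [sub_eq_zero] using hz

theorem Amb.finite_lev (H : Amb p ρ F) {e : ℕ} (he : 0 < e) : Finite ↥(lev p ρ e) := by
  have h1 : Finite {a : k // a ^ p ^ e = a} := (finite_pow_eq (k := k) he).to_subtype
  refine Finite.of_injective (fun y : lev p ρ e => fun ij : N × N =>
    (⟨(ρ y : Matrix N N k) ij.1 ij.2, frob_eq_iff.1 y.2 _ _⟩ : {a : k // a ^ p ^ e = a})) fun y y' h => ?_
  apply Subtype.ext
  apply H.inj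
  apply co_injective
  funext ij
  exact congrArg Subtype.val (congrFun h ij)

theorem Amb.pow_frob {d e : ℕ} (h : ∀ y, ρ ((F ^ d) y) = LangThm.frob p e (ρ y)) (m : ℕ) (y : Y) :
    ρ ((F ^ (d * m)) y) = LangThm.frob p (e * m) (ρ y) := by
  induction m generalizing y with
  | zero => rw [mul_zero, mul_zero, pow_zero, BpExc.LangFr.frob_zero]; rfl
  | succ m ih =>
    rw [Nat.mul_succ, Nat.mul_succ, pow_add, MulAut.mul_apply, ih, h, BpExc.LangFr.frob_frob]

theorem fix_le_fix_pow (m : ℕ) : fix F ≤ fix (F ^ m) := by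
  intro y hy
  rw [mem_fix] at hy ⊢
  induction m with
  | zero => rfl
  | succ m ih => rw [pow_succ, MulAut.mul_apply, hy, ih]

theorem Amb.fix_pow_eq (H : Amb p ρ F) {d e : ℕ} (h : ∀ y, ρ ((F ^ d) y) = LangThm.frob p e (ρ y)) :
    fix (F ^ d) = lev p ρ e := by
  ext y
  rw [mem_fix, mem_lev, ← h, H.inj.eq_iff]

theorem Amb.finite_fix_pow (H : Amb p ρ F) {m : ℕ} (hm : 0 < m) : Finite ↥(fix (F ^ m)) := by
  obtain ⟨d, e, hd, he, h⟩ := H.frob
  have h1 := H.finite_lev (Nat.mul_pos he hm)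
  rw [← H.fix_pow_eq (Amb.pow_frob h m), mul_comm, pow_mul] at h1
  exact Finite.of_injective _ (Subgroup.inclusion_injective (fix_le_fix_pow d))

theorem Amb.finite_fix (H : Amb p ρ F) : Finite ↥(fix F) := by
  simpa using H.finite_fix_pow one_pos

theorem Amb.finite_GF (H : Amb p ρ F) (G : Subgroup Y) : Finite ↥(GF F G) := by
  have := H.finite_fix
  exact Finite.of_injective _ (Subgroup.inclusion_injective (inf_le_right : GF F G ≤ fix F))

/-- every element is fixed by a power of `F` -/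
theorem Amb.exists_pow_fix (H : Amb p ρ F) {ι : Type*} [Finite ι] (f : ι → Y) :
    ∃ m, 0 < m ∧ ∀ i, (F ^ m) (f i) = f i := by
  obtain ⟨d, e, hd, he, h⟩ := H.frob
  obtain ⟨e', he', h'⟩ := H.exists_lev f
  refine ⟨d * e', Nat.mul_pos hd he', fun i => ?_⟩
  rw [← mem_fix, H.fix_pow_eq (Amb.pow_frob h e')]
  exact lev_mono (Dvd.intro_left e rfl) (h' i)

theorem Amb.isOfFinOrder (H : Amb p ρ F) (y : Y) : IsOfFinOrder y := by
  obtain ⟨e, he, h⟩ := H.exists_lev' y
  have := H.finite_lev he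
  exact (Subgroup.subtype_injective _).isOfFinOrder_iff.2 (isOfFinOrder_of_finite (⟨y, h⟩ : lev p ρ e))

theorem Amb.pow (H : Amb p ρ F) {m : ℕ} (hm : 0 < m) : Amb p ρ (F ^ m) := by
  obtain ⟨d, e, hd, he, h⟩ := H.frob
  refine ⟨H.lf, H.inj, d, e * m, hd, Nat.mul_pos he hm, fun y => ?_⟩
  rw [← pow_mul, mul_comm m, Amb.pow_frob h]

theorem conj_mul_pow (y : Y) (F : MulAut Y) (m : ℕ) :
    (MulAut.conj y * F) ^ m = MulAut.conj (((List.range m).map fun i => (F ^ i) y).prod) * F ^ m := by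
  induction m with
  | zero => simp
  | succ m ih =>
    rw [pow_succ, ih, List.range_succ, List.map_append, List.prod_append, map_mul]
    ext z
    simp [pow_succ, mul_assoc]

/-- `ad y ∘ F` is again a Steinberg endomorphism -/
theorem Amb.conj_mul (H : Amb p ρ F) (y : Y) : Amb p ρ (MulAut.conj y * F) := by
  obtain ⟨d, e, hd, he, h⟩ := H.frob
  obtain ⟨e', he', h'⟩ := H.exists_lev' y
  set z : Y := ((List.range (d * e')).map fun i => (F ^ i) y).prod with hz
  have h1 := Amb.pow_frob h e'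
  have hy : (F ^ (d * e')) y = y := by
    rw [← mem_fix, H.fix_pow_eq h1]
    exact lev_mono (Dvd.intro_left e rfl) h'
  have hz1 : (F ^ (d * e')) z = z := by
    rw [hz, map_list_prod, List.map_map]
    congr 1
    refine List.map_congr_left fun i _ => ?_
    show (F ^ (d * e')) ((F ^ i) y) = _
    rw [← MulAut.mul_apply, ← pow_add, add_comm, pow_add, MulAut.mul_apply, hy]
  have hc : Commute (MulAut.conj z) (F ^ (d * e')) := by
    ext w
    simp [hz1]
  have ho := (H.isOfFinOrder z).orderOf_pos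
  refine ⟨H.lf, H.inj, d * e' * orderOf z, e * e' * orderOf z, by positivity, by positivity, fun w => ?_⟩
  rw [pow_mul, conj_mul_pow, ← hz, hc.mul_pow, ← map_pow, pow_orderOf_eq_one, map_one, one_mul, ← pow_mul,
    Amb.pow_frob h1]

end Lev

end Cfsg.Agent.DL
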