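import Cfsg.Agent.DL.Dat.Basic
import Cfsg.Agent.Nodes.Slope

/-!
# Ordered products of root elements (helper10)

`Conv L` : each entry of `L` is cut off from the later ones by a functional.  For such a list of roots in a half space
the product map `c ↦ ∏ x a (c a)` is injective, and onto `D.S A` for every closed `A ⊆ L` (with `c` supported on `A`).
-/

set_option autoImplicit false
set_option linter.unusedSectionVars false

namespace Cfsg.Agent.DL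

open CoxeterSystem Cfsg.Agent.ChevalleyStructure.CoxeterGeom Cfsg.Agent.Tits.Roots Cfsg.Agent.Nodes.Reps
  Cfsg.Agent.Nodes.BNOf Cfsg.Agent.Nodes.Bruhat Cfsg.Agent.Nodes.NormalForm Cfsg.Agent.Nodes.StabComb
  Cfsg.Agent.Nodes.OppDec Cfsg.Agent.LangThm Cfsg.Agent.BpExc.Tow Cfsg.Agent.Nodes.Slope
open scoped commutatorElement Pointwise

/-- convex lists of vectors -/
def Conv {I : Type} : List (I → ℤ) → Prop
  | [] => True
  | a :: L => (∃ f : (I → ℤ) →+ ℤ, f a = 0 ∧ ∀ b ∈ L, 0 < f b) ∧ Conv L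

theorem Conv.nodup {I : Type} : ∀ {L : List (I → ℤ)}, Conv L → L.Nodup
  | [], _ => List.nodup_nil
  | _ :: _, ⟨⟨_, h1, h2⟩, h3⟩ => List.nodup_cons.2 ⟨fun h => (h2 _ h).ne' h1, h3.nodup⟩

theorem exists_conv {I W : Type} [Fintype I] [DecidableEq I] [Group W] [Finite W] {M : CoxeterMatrix I}
    {cs : CoxeterSystem M W} {A : I → I → ℤ} {h : IsCartan M A} {S : Set (I → ℤ)} (hS : ∀ a ∈ S, IsRoot cs h a)
    (lam : (I → ℤ) →+ ℤ) (hl : ∀ a ∈ S, 0 < lam a) : ∃ L : List (I → ℤ), Conv L ∧ ∀ a, a ∈ L ↔ a ∈ S := by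
  obtain ⟨mu, hmu⟩ := exists_sep (cs := cs) (h := h) hS lam hl
  have hfin : S.Finite := (RGD.finite_roots (cs := cs) (h := h)).subset hS
  have key : ∀ m : ℕ, ∀ S' ⊆ S, S'.ncard = m → ∃ L : List (I → ℤ), Conv L ∧ ∀ a, a ∈ L ↔ a ∈ S' := by
    intro m
    induction m with
    | zero =>
      intro S' hsub hm
      rw [Set.ncard_eq_zero (hfin.subset hsub)] at hm
      exact ⟨[], trivial, by simp [hm]⟩
    | succ m ih =>
      intro S' hsub hm
      have hne : S'.Nonempty := Set.nonempty_of_ncard_ne_zero (by omega)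
      obtain ⟨r, hr, hext⟩ := exists_extreme (hfin.subset hsub) hne lam mu mu fun a ha => hl a (hsub ha)
      obtain ⟨L, hL, hmem⟩ := ih (S' \ {r}) (Set.diff_subset.trans hsub)
        (by rw [Set.ncard_diff_singleton_of_mem hr]; omega)
      refine ⟨r :: L, ⟨⟨mu r • lam - lam r • mu, ?_, fun b hb => ?_⟩, hL⟩, fun a => ?_⟩
      · simp only [AddMonoidHom.sub_apply, AddMonoidHom.smul_apply, smul_eq_mul]
        ring
      · obtain ⟨hb1, hb2⟩ := (hmem b).1 hb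
        simp only [AddMonoidHom.sub_apply, AddMonoidHom.smul_apply, smul_eq_mul]
        rcases hext b hb1 with h1 | ⟨h1, -⟩
        · linarith
        · exact absurd (hmu b (hsub hb1) r (hsub hr) h1) hb2
      · rw [List.mem_cons, hmem]
        constructor
        · rintro (rfl | h1)
          · exact hr
          · exact h1.1
        · intro ha
          by_cases h1 : a = r
          · exact Or.inl h1
          · exact Or.inr ⟨ha, h1⟩
  exact key _ S subset_rfl rfl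

namespace Datum

variable {p : ℕ} [Fact p.Prime] {k : Type} [Field k] [CharP k p] {Y : Type} [Group Y] {N : Type} [Fintype N]
  [DecidableEq N] {ρ : Y →* GL N k} {F : MulAut Y} {G : Subgroup Y} (D : Datum p ρ F G)

/-- closed sets of roots -/
abbrev Cl (S : Set (D.I → ℤ)) : Prop := Closed D.cs D.h S

theorem cl_pos : D.Cl (RGD.Pos D.cs D.h) :=
  ⟨fun _ h => h.1, fun _ hx _ hy _ hz => ⟨hz.1, btwn_nonneg hz hx.2 hy.2⟩⟩

theorem cl_NW (w : D.W) : D.Cl (NW D.cs D.h w) :=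
  ⟨fun _ h => h.1, fun _ hx _ hy _ hz => ⟨hz.1, btwn_nonneg hz hx.2.1 hy.2.1,
    RGD.nonpos_of_btwn hx.2.2 hy.2.2 (hz.act w)⟩⟩

theorem cl_PW (w : D.W) : D.Cl (PW D.cs D.h w) :=
  ⟨fun _ h => h.1, fun _ hx _ hy _ hz => ⟨hz.1, btwn_nonneg hz hx.2.1 hy.2.1,
    btwn_nonneg (hz.act w) hx.2.2 hy.2.2⟩⟩

theorem ht_pos_of_pos : ∀ a ∈ RGD.Pos D.cs D.h, 0 < htHom a := fun _ ha => RGD.ht_pos ha.1 ha.2

theorem split {S : Set (D.I → ℤ)} (hS : D.Cl S) (lam ell : (D.I → ℤ) →+ ℤ) (hl : ∀ a ∈ S, 0 < lam a) {u : Y}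
    (hu : u ∈ D.S S) : ∃ a ∈ D.S {x | x ∈ S ∧ 0 < ell x}, ∃ c ∈ D.S {x | x ∈ S ∧ ell x ≤ 0}, u = a * c := by
  obtain ⟨j, hj⟩ := D.mem_S_iff.1 hu
  obtain ⟨a, ha, c, hc, e⟩ := Nodes.Slope.split (D.tow.rgd j) hS lam ell hl hj
  exact ⟨a, D.Sup_Xe_le _ _ ha, c, D.Sup_Xe_le _ _ hc, e⟩

theorem sup_inf_sup' (ell lam : (D.I → ℤ) →+ ℤ) {u : Y} (h1 : u ∈ D.S {x | D.Rt x ∧ 0 < ell x})
    (h2 : u ∈ D.S {x | D.Rt x ∧ ell x ≤ 0 ∧ 0 < lam x}) : u = 1 := by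
  obtain ⟨e, he, hd, h⟩ := D.exists_lev_S ![{x | D.Rt x ∧ 0 < ell x}, {x | D.Rt x ∧ ell x ≤ 0 ∧ 0 < lam x}] ![u, u]
    (by
      intro i; fin_cases i
      · exact h1
      · exact h2)
  exact Nodes.Slope.sup_inf_sup' (D.rgd_lev he hd) ell lam (h e dvd_rfl 0) (h e dvd_rfl 1)

/-- the ordered product `∏_{a ∈ L} x a (c a)` -/
def lp (L : List (D.I → ℤ)) (c : (D.I → ℤ) → k) : Y := (L.map fun a => D.x a (c a)).prod

theorem lp_nil (c : (D.I → ℤ) → k) : D.lp [] c = 1 := rfl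

theorem lp_cons (a : D.I → ℤ) (L : List (D.I → ℤ)) (c : (D.I → ℤ) → k) :
    D.lp (a :: L) c = D.x a (c a) * D.lp L c := by
  rw [lp, List.map_cons, List.prod_cons]
  rfl

theorem lp_congr {L : List (D.I → ℤ)} {c c' : (D.I → ℤ) → k} (h : ∀ a ∈ L, c a = c' a) : D.lp L c = D.lp L c' := by
  unfold lp
  congr 1
  exact List.map_congr_left fun a ha => by rw [h a ha]

theorem lp_mem {L : List (D.I → ℤ)} (hL : ∀ a ∈ L, D.Rt a) {c : (D.I → ℤ) → k} {H : Subgroup Y}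
    (h : ∀ a ∈ L, c a ≠ 0 → D.x a (c a) ∈ H) : D.lp L c ∈ H := by
  refine Subgroup.list_prod_mem _ fun y hy => ?_
  obtain ⟨a, ha, rfl⟩ := List.mem_map.1 hy
  by_cases h0 : c a = 0
  · rw [h0, D.x_zero (hL a ha)]; exact one_mem _
  · exact h a ha h0

theorem lp_mem_S {L : List (D.I → ℤ)} (hL : ∀ a ∈ L, D.Rt a) {c : (D.I → ℤ) → k} {S : Set (D.I → ℤ)}
    (h : ∀ a ∈ L, c a ≠ 0 → a ∈ S) : D.lp L c ∈ D.S S :=
  D.lp_mem hL fun a ha h0 => RGD.le_Sup (h a ha h0) (D.x_mem (hL a ha) _)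

theorem map_lp {Y' : Type*} [Group Y'] (f : Y →* Y') (L : List (D.I → ℤ)) (c : (D.I → ℤ) → k) :
    f (D.lp L c) = (L.map fun a => f (D.x a (c a))).prod := by
  rw [lp, map_list_prod, List.map_map]
  rfl

theorem map_lp_eq (f : Y →* Y) {L : List (D.I → ℤ)} {c c' : (D.I → ℤ) → k}
    (h : ∀ a ∈ L, f (D.x a (c a)) = D.x a (c' a)) : f (D.lp L c) = D.lp L c' := by
  rw [map_lp, lp]
  congr 1
  exact List.map_congr_left h

theorem lp_inj (lam : (D.I → ℤ) →+ ℤ) : ∀ {L : List (D.I → ℤ)}, Conv L → (∀ a ∈ L, D.Rt a ∧ 0 < lam a) →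
    ∀ {c c' : (D.I → ℤ) → k}, D.lp L c = D.lp L c' → ∀ a ∈ L, c a = c' a
  | [], _, _, _, _, _ => by simp
  | r :: L, ⟨⟨f, hf0, hf⟩, hL⟩, hr, c, c', e => by
    have hr0 := hr r List.mem_cons_self
    have hr' : ∀ a ∈ L, D.Rt a ∧ 0 < lam a := fun a ha => hr a (List.mem_cons_of_mem _ ha)
    rw [lp_cons, lp_cons] at e
    have h1 : D.x r (-c' r + c r) = D.lp L c' * (D.lp L c)⁻¹ := by
      rw [D.x_add r hr0.1, D.x_neg hr0.1, eq_mul_inv_iff_mul_eq, mul_assoc, e, inv_mul_cancel_left]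
    have hm : ∀ d, D.lp L d ∈ D.S {x | D.Rt x ∧ 0 < f x} := fun d =>
      D.lp_mem_S (fun a ha => (hr' a ha).1) fun a ha _ => ⟨(hr' a ha).1, hf a ha⟩
    have h2 : D.x r (-c' r + c r) = 1 := by
      refine D.sup_inf_sup' f lam (h1 ▸ mul_mem (hm c') (inv_mem (hm c))) ?_
      exact RGD.le_Sup (S := {x | D.Rt x ∧ f x ≤ 0 ∧ 0 < lam x}) ⟨hr0.1, hf0.le, hr0.2⟩ (D.x_mem hr0.1 _)
    have h3 : c r = c' r := by
      have := (D.x_eq_one_iff hr0.1).1 h2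
      linear_combination this
    rw [h3, mul_right_inj] at e
    intro a ha
    rcases List.mem_cons.1 ha with rfl | ha
    · exact h3
    · exact lp_inj lam hL hr' e a ha

theorem exists_lp (lam : (D.I → ℤ) →+ ℤ) : ∀ {L : List (D.I → ℤ)}, Conv L → (∀ a ∈ L, D.Rt a ∧ 0 < lam a) →
    ∀ {S : Set (D.I → ℤ)}, D.Cl S → (∀ a ∈ S, a ∈ L) → ∀ {u : Y}, u ∈ D.S S →
      ∃ c : (D.I → ℤ) → k, (∀ a, a ∉ S → c a = 0) ∧ u = D.lp L c
  | [], _, _, S, _, hS, u, hu => by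
    have : S = ∅ := Set.eq_empty_of_forall_notMem fun a ha => by simpa using hS a ha
    rw [this, Datum.S, Sup_empty, Subgroup.mem_bot] at hu
    exact ⟨0, fun _ _ => rfl, hu⟩
  | r :: L, ⟨⟨f, hf0, hf⟩, hL⟩, hr, S, hcl, hS, u, hu => by
    classical
    have hr0 := hr r List.mem_cons_self
    have hr' : ∀ a ∈ L, D.Rt a ∧ 0 < lam a := fun a ha => hr a (List.mem_cons_of_mem _ ha)
    have hrL : r ∉ L := fun h => (hf r h).ne' hf0
    obtain ⟨a, ha, b, hb, e⟩ := D.split hcl lam f (fun a ha => (hr a (hS a ha)).2) (inv_mem hu)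
    obtain ⟨c, hc0, hc⟩ := exists_lp lam hL hr' (hcl.pos f) (fun a ha => by
      rcases List.mem_cons.1 (hS a ha.1) with rfl | h
      · exact absurd hf0 ha.2.ne'
      · exact h) (inv_mem ha)
    have hu' : u = b⁻¹ * a⁻¹ := by rw [← mul_inv_rev, ← e, inv_inv]
    have hsub : ∀ x ∈ {x | x ∈ S ∧ f x ≤ 0}, x = r := by
      rintro x ⟨h1, h2⟩
      rcases List.mem_cons.1 (hS x h1) with rfl | h
      · rfl
      · exact absurd (hf x h) (not_lt.2 h2)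
    by_cases hrS : r ∈ S
    · have h1 : b ∈ D.X r := (RGD.Sup_le fun x hx => by rw [hsub x hx] : D.S _ ≤ D.X r) hb
      obtain ⟨t, ht⟩ := (D.mem_X r hr0.1 _).1 (inv_mem h1)
      refine ⟨Function.update c r t, fun x hx => ?_, ?_⟩
      · rw [Function.update_of_ne (fun h : x = r => hx (h ▸ hrS))]
        exact hc0 x fun h => hx h.1
      · rw [lp_cons, Function.update_self, ht, hu', hc]
        congr 1
        exact D.lp_congr fun x hx => (Function.update_of_ne (fun h : x = r => hrL (h ▸ hx)) _ _).symm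
    · have h1 : b = 1 := by
        have h2 : {x | x ∈ S ∧ f x ≤ 0} = ∅ :=
          Set.eq_empty_of_forall_notMem fun x hx => hrS (hsub x hx ▸ hx.1)
        rwa [h2, Datum.S, Sup_empty, Subgroup.mem_bot] at hb
      refine ⟨c, fun x hx => hc0 x fun h => hx h.1, ?_⟩
      rw [lp_cons, hc0 r fun h => hrS h.1, D.x_zero hr0.1, one_mul, hu', h1, inv_one, one_mul, hc]

/-- A closed set of roots in a half space: the roots of a `T`-stable connected unipotent subgroup. -/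
structure Uni (S : Set (D.I → ℤ)) : Prop where
  cl : D.Cl S
  pos : ∃ lam : (D.I → ℤ) →+ ℤ, ∀ a ∈ S, 0 < lam a

theorem uni_of_subset_pos {S : Set (D.I → ℤ)} (hS : D.Cl S) (h : S ⊆ RGD.Pos D.cs D.h) : D.Uni S :=
  ⟨hS, htHom, fun a ha => D.ht_pos_of_pos a (h ha)⟩

theorem uni_pos : D.Uni (RGD.Pos D.cs D.h) := D.uni_of_subset_pos D.cl_pos subset_rfl

theorem uni_NW (w : D.W) : D.Uni (NW D.cs D.h w) := D.uni_of_subset_pos (D.cl_NW w) fun _ h => ⟨h.1, h.2.1⟩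

theorem uni_PW (w : D.W) : D.Uni (PW D.cs D.h w) := D.uni_of_subset_pos (D.cl_PW w) fun _ h => ⟨h.1, h.2.1⟩

/-- An ordering of `S` with unique product decomposition (also for all closed subsets). -/
structure Ord (S : Set (D.I → ℤ)) (L : List (D.I → ℤ)) : Prop where
  nodup : L.Nodup
  mem : ∀ a, a ∈ L ↔ a ∈ S
  root : ∀ a ∈ L, D.Rt a
  inj : ∀ {c c' : (D.I → ℤ) → k}, D.lp L c = D.lp L c' → ∀ a ∈ S, c a = c' a
  ex : ∀ {S' : Set (D.I → ℤ)}, D.Cl S' → S' ⊆ S → ∀ {u : Y}, u ∈ D.S S' →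
    ∃ c : (D.I → ℤ) → k, (∀ a, a ∉ S' → c a = 0) ∧ u = D.lp L c

theorem exists_ord' {S : Set (D.I → ℤ)} (hS : ∀ a ∈ S, D.Rt a) (lam : (D.I → ℤ) →+ ℤ) (hl : ∀ a ∈ S, 0 < lam a) :
    ∃ L, D.Ord S L := by
  obtain ⟨L, h1, h2⟩ := exists_conv hS lam hl
  have h3 : ∀ a ∈ L, D.Rt a ∧ 0 < lam a := fun a ha => ⟨hS a ((h2 a).1 ha), hl a ((h2 a).1 ha)⟩
  exact ⟨L, h1.nodup, h2, fun a ha => (h3 a ha).1, fun e a ha => D.lp_inj lam h1 h3 e a ((h2 a).2 ha),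
    fun hcl hsub _ hu => D.exists_lp lam h1 h3 hcl (fun a ha => (h2 a).2 (hsub ha)) hu⟩

variable {D}

theorem Uni.exists_ord {S : Set (D.I → ℤ)} (h : D.Uni S) : ∃ L, D.Ord S L := by
  obtain ⟨lam, hl⟩ := h.pos
  exact D.exists_ord' h.cl.root lam hl

theorem Uni.root {S : Set (D.I → ℤ)} (h : D.Uni S) : ∀ a ∈ S, D.Rt a := h.cl.root

theorem Uni.subset {S S' : Set (D.I → ℤ)} (h : D.Uni S) (h' : D.Cl S') (hs : S' ⊆ S) : D.Uni S' := by
  obtain ⟨lam, hl⟩ := h.pos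
  exact ⟨h', lam, fun a ha => hl a (hs ha)⟩

theorem Ord.lp_mem {S : Set (D.I → ℤ)} {L : List (D.I → ℤ)} (h : D.Ord S L) (c : (D.I → ℤ) → k) :
    D.lp L c ∈ D.S S := D.lp_mem_S h.root fun a ha _ => (h.mem a).1 ha

theorem Ord.length_eq {S : Set (D.I → ℤ)} {L : List (D.I → ℤ)} (h : D.Ord S L) : L.length = S.ncard := by
  classical
  rw [← List.toFinset_card_of_nodup h.nodup, ← Set.ncard_coe_finset]
  congr 1
  ext a
  simp [h.mem]

/-- the support of the coordinates of an element of a closed subset -/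
theorem Ord.eq_zero {S S' : Set (D.I → ℤ)} {L : List (D.I → ℤ)} (h : D.Ord S L) (h' : D.Cl S') (hs : S' ⊆ S)
    {c : (D.I → ℤ) → k} (hc : D.lp L c ∈ D.S S') : ∀ a ∈ S, a ∉ S' → c a = 0 := by
  obtain ⟨d, hd0, hd⟩ := h.ex h' hs hc
  intro a ha ha'
  rw [h.inj hd a ha, hd0 a ha']

theorem S_inf_S {A B : Set (D.I → ℤ)} (hA : D.Cl A) (hB : D.Cl B) (lam : (D.I → ℤ) →+ ℤ)
    (hl : ∀ a ∈ A ∪ B, 0 < lam a) : D.S A ⊓ D.S B = D.S (A ∩ B) := by
  refine le_antisymm ?_ (le_inf (RGD.Sup_mono Set.inter_subset_left) (RGD.Sup_mono Set.inter_subset_right))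
  rintro u ⟨h1, h2⟩
  obtain ⟨L, hL⟩ := D.exists_ord' (S := A ∪ B) (fun a ha => ha.elim (hA.root a) (hB.root a)) lam hl
  obtain ⟨c, hc0, rfl⟩ := hL.ex hA Set.subset_union_left h1
  refine D.lp_mem_S hL.root fun a ha h0 => ⟨by_contra fun h => h0 (hc0 a h), by_contra fun h => h0 ?_⟩
  exact hL.eq_zero hB Set.subset_union_right h2 a ((hL.mem a).1 ha) h

/-- fixed points of an endomorphism acting on each root group -/
theorem Uni.exists_of_fix {S : Set (D.I → ℤ)} {L : List (D.I → ℤ)} (h : D.Uni S) (hL : D.Ord S L)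
    {ι : Type*} (f : ι → Y →* Y) (φ : ι → (D.I → ℤ) → k → k)
    (hf : ∀ i, ∀ a ∈ S, ∀ t, f i (D.x a t) = D.x a (φ i a t)) {u : Y} (hu : u ∈ D.S S) (hfix : ∀ i, f i u = u) :
    ∃ c : (D.I → ℤ) → k, (∀ a, a ∉ S → c a = 0) ∧ (∀ i, ∀ a ∈ S, φ i a (c a) = c a) ∧ u = D.lp L c := by
  obtain ⟨c, hc0, rfl⟩ := hL.ex h.cl subset_rfl hu
  refine ⟨c, hc0, fun i => ?_, rfl⟩
  have h1 := D.map_lp_eq (f i) (c := c) (c' := fun a => φ i a (c a)) fun a ha => hf i a ((hL.mem a).1 ha) _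
  rw [hfix] at h1
  exact fun a ha => (hL.inj h1 a ha).symm

variable (D) in
/-- the roots that are trivial on `Z` -/
def Sz (Z : Set Y) : Set (D.I → ℤ) := {a | D.Rt a ∧ ∀ z ∈ Z, D.χ a z = 1}

theorem X_le_centralizer {Z : Set Y} (hZ : Z ⊆ D.T) {a : D.I → ℤ} (ha : a ∈ D.Sz Z) :
    D.X a ≤ Subgroup.centralizer Z := by
  intro y hy
  obtain ⟨u, rfl⟩ := (D.mem_X a ha.1 _).1 hy
  intro z hz
  have := D.tor' ha.1 (hZ hz) u
  rw [ha.2 z hz, one_mul] at this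
  exact mul_inv_eq_iff_eq_mul.1 this

theorem Uni.inf_centralizer {S : Set (D.I → ℤ)} (h : D.Uni S) {Z : Set Y} (hZ : Z ⊆ D.T) :
    D.S S ⊓ Subgroup.centralizer Z = D.S (S ∩ D.Sz Z) := by
  refine le_antisymm ?_ (le_inf (RGD.Sup_mono Set.inter_subset_left)
    (RGD.Sup_le fun a ha => X_le_centralizer hZ ha.2))
  rintro u ⟨h1, h2⟩
  obtain ⟨L, hL⟩ := h.exists_ord
  obtain ⟨c, -, hc, rfl⟩ := h.exists_of_fix hL (fun z : Z => (MulAut.conj z.1).toMonoidHom)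
    (fun z a t => D.χ a z * t) (fun z a ha t => D.tor' (h.root a ha) (hZ z.2) t) h1
    (fun z => mul_inv_eq_iff_eq_mul.2 (h2 z.1 z.2))
  refine D.lp_mem_S hL.root fun a ha h0 => ⟨(hL.mem a).1 ha, hL.root a ha, fun z hz => ?_⟩
  exact mul_left_eq_self₀.1 (hc ⟨z, hz⟩ a ((hL.mem a).1 ha)) |>.resolve_right h0

end Datum

end Cfsg.Agent.DL
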